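import Cfsg.Agent.H82.J4Iso.Final
import Cfsg.Agent.H88.J4Fusion.Orbit

/-!
Janko-four type simple groups: `N_G(P) ≤ H`, a Sylow 3-subgroup of `H` is one of `G`, and there is
one class of elements of order three.
-/

set_option autoImplicit false

open Cfsg Subgroup
open scoped commutatorElement

namespace Cfsg.Agent.H82.J4Iso

open H25.M22 (G22)

variable {G : Type*} [Group G] [Finite G] [IsSimpleGroup G] {z : G} {P : Subgroup G}

theorem normalizer_le (hG : ¬ IsMulCommutative G) (hJ : IsOfJankoFourTypeWith z P) :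
    normalizer (P : Set G) ≤ centralizer ({z} : Set G) := by
  obtain ⟨u, hu, huz, hconj⟩ := H88.J4Fusion.exists_fusion hG hJ
  exact (main_of_fusion hJ hu huz hconj).2

theorem perfect_cent (hG : ¬ IsMulCommutative G) (hJ : IsOfJankoFourTypeWith z P) :
    ⁅centralizer ({z} : Set G) ⊓ centralizer (P : Set G),
        centralizer ({z} : Set G) ⊓ centralizer (P : Set G)⁆ =
      centralizer ({z} : Set G) ⊓ centralizer (P : Set G) := by
  obtain ⟨u, hu, huz, hconj⟩ := H88.J4Fusion.exists_fusion hG hJ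
  exact (main_of_fusion hJ hu huz hconj).1

theorem exists_sylow_le (hG : ¬ IsMulCommutative G) (hJ : IsOfJankoFourTypeWith z P) :
    ∃ R : Sylow 3 G, (R : Subgroup G) ≤ centralizer ({z} : Set G) := by
  classical
  haveI : Fact (Nat.Prime 3) := ⟨Nat.prime_three⟩
  set H : Subgroup G := centralizer ({z} : Set G) with hH
  set C : Subgroup G := H ⊓ centralizer (P : Set G) with hC
  obtain ⟨S⟩ : Nonempty (Sylow 3 C) := inferInstance
  set R₀ : Subgroup G := (S : Subgroup C).map C.subtype with hR₀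
  have hR₀C : R₀ ≤ C := map_subtype_le _
  have hR₀27 : Nat.card R₀ = 27 := by
    rw [card_map_of_injective C.subtype_injective, S.card_eq_multiplicity, H42.J4.card_cent hJ,
      show 6 * 443520 = 27 * 98560 by norm_num, H42.J4.card_three_part (by norm_num)]
  obtain ⟨-, -, -, hNP, -⟩ := H42.J4.of_le_cent hJ hR₀C hR₀27
  obtain ⟨R, hR⟩ := (IsPGroup.of_card (p := 3) (n := 3) (show Nat.card R₀ = 3 ^ 3 by rw [hR₀27]; rfl)).exists_le_sylow
  refine ⟨R, ?_⟩
  have hHfac : 3 ^ (Nat.card H).factorization 3 = 27 := by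
    rw [(H42.J4.exists_hom_norm hJ).1, H42.J4.card_aut22,
      show 3 * 2 ^ 13 * 887040 = 27 * (2 ^ 13 * 98560) by norm_num,
      H42.J4.card_three_part (by norm_num)]
  suffices heq : R₀ = (R : Subgroup G) by
    rw [← heq]; exact hR₀C.trans inf_le_left
  by_contra hne
  haveI : Group.IsNilpotent ↥(R : Subgroup G) := R.isPGroup'.isNilpotent
  have hlt : R₀.subgroupOf (R : Subgroup G) < ⊤ := by
    refine lt_top_iff_ne_top.2 fun h => hne (le_antisymm hR ?_)
    exact subgroupOf_eq_top.1 h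
  have hnc := normalizerCondition_of_isNilpotent (G := ↥(R : Subgroup G)) _ hlt
  obtain ⟨v, hvn, hv⟩ := SetLike.exists_of_lt hnc
  have hvN : (v : G) ∈ normalizer (R₀ : Set G) := by
    refine Subgroup.mem_normalizer_iff.2 fun r => ?_
    have hvn' := Subgroup.mem_normalizer_iff.1 hvn
    refine ⟨fun hr => ?_, fun hr => ?_⟩
    · have := (hvn' ⟨r, hR hr⟩).1 (mem_subgroupOf.2 hr)
      exact mem_subgroupOf.1 this
    · have hrR : r ∈ (R : Subgroup G) := by
        have h := Subgroup.mul_mem _ (Subgroup.mul_mem _ (Subgroup.inv_mem _ v.2) (hR hr)) v.2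
        have e : (v : G)⁻¹ * ((v : G) * r * (v : G)⁻¹) * v = r := by group
        rwa [e] at h
      exact mem_subgroupOf.1 ((hvn' ⟨r, hrR⟩).2 (mem_subgroupOf.2 hr))
  have hvH : (v : G) ∈ H := normalizer_le hG hJ (hNP hvN)
  obtain ⟨n, hn⟩ := IsPGroup.iff_card.1
    (R.isPGroup'.to_le (sup_le hR (zpowers_le.2 v.2) : R₀ ⊔ zpowers (v : G) ≤ R))
  have hdvd : 3 ^ n ∣ Nat.card H :=
    hn ▸ card_dvd_of_le (sup_le (hR₀C.trans inf_le_left) (zpowers_le.2 hvH))
  have h1 : 3 ^ n ∣ 27 := by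
    rw [← hHfac]
    exact pow_dvd_pow 3 ((Nat.prime_three.pow_dvd_iff_le_factorization Nat.card_pos.ne').1 hdvd)
  have heq : R₀ = R₀ ⊔ zpowers (v : G) := eq_of_le_of_card_ge le_sup_left (by
    rw [hn, hR₀27]; exact Nat.le_of_dvd (by norm_num) h1)
  exact hv (mem_subgroupOf.2 (heq ▸ mem_sup_right (mem_zpowers (v : G))))

/-- A generator of `P` is conjugate to its inverse. -/
theorem isConj_inv_gen (hJ : IsOfJankoFourTypeWith z P) {a : G} (haP : a ∈ P) :
    IsConj a a⁻¹ := by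
  classical
  obtain ⟨p, hp, hp3, hPp, -, -, -⟩ := H42.J4.exists_gen hJ
  have hne := hJ.2.2.2.2.2.2.2.1
  obtain ⟨d, hdD, hdC⟩ : ∃ d ∈ centralizer ({z} : Set G) ⊓ normalizer (P : Set G),
      d ∉ centralizer ({z} : Set G) ⊓ centralizer (P : Set G) := by
    by_contra hall
    push Not at hall
    exact hne (le_antisymm hall (H42.J4.cent_le_norm hJ))
  suffices hd : d * p * d⁻¹ = p⁻¹ by
    obtain ⟨i, rfl⟩ := mem_zpowers_iff.1 (hPp ▸ haP)
    refine isConj_iff.2 ⟨d, ?_⟩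
    rw [← conj_zpow, hd, inv_zpow]
  obtain ⟨i, hi⟩ := mem_zpowers_iff.1 (hPp ▸ (mem_normalizer_iff.1 hdD.2 p).1 hp :
    d * p * d⁻¹ ∈ zpowers p)
  have hp3' : p ^ (3 : ℤ) = 1 := by rw [zpow_ofNat, ← hp3, pow_orderOf_eq_one]
  have hi3 : p ^ i = p ^ (i % 3) := by
    conv_lhs => rw [← Int.emod_add_mul_ediv i 3]
    rw [zpow_add, zpow_mul, hp3', one_zpow, mul_one]
  rw [hi3] at hi
  have h0 := Int.emod_nonneg i (show (3 : ℤ) ≠ 0 by norm_num)
  have h3 := Int.emod_lt_of_pos i (show (0 : ℤ) < 3 by norm_num)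
  rw [← hi]
  interval_cases hm : i % 3
  · exfalso
    rw [zpow_zero, eq_comm, conj_eq_one_iff] at hi
    rw [hi, orderOf_one] at hp3
    omega
  · refine absurd ?_ hdC
    rw [zpow_one, eq_comm, mul_inv_eq_iff_eq_mul] at hi
    refine ⟨hdD.1, mem_centralizer_iff.2 fun q hq => ?_⟩
    obtain ⟨j, rfl⟩ := mem_zpowers_iff.1 (hPp ▸ hq)
    exact ((show Commute d p from hi).zpow_right j).eq.symm
  · rw [zpow_ofNat, ← mul_eq_one_iff_eq_inv, ← pow_succ, show 2 + 1 = 3 from rfl, ← hp3,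
      pow_orderOf_eq_one]

theorem one_class_three (hG : ¬ IsMulCommutative G) (hJ : IsOfJankoFourTypeWith z P) :
    ∀ x y : G, orderOf x = 3 → orderOf y = 3 → IsConj x y := by
  classical
  haveI : Fact (Nat.Prime 3) := ⟨Nat.prime_three⟩
  obtain ⟨u, hu, huz, hconj⟩ := H88.J4Fusion.exists_fusion hG hJ
  obtain ⟨-, b, hb, hbP, hb3, a, haP, ha1, hab⟩ :=
    H42.J4.of_fusion hJ (normalizer_le hG hJ) hu huz hconj
  obtain ⟨R, hR⟩ := exists_sylow_le hG hJ
  set C : Subgroup G := centralizer ({z} : Set G) ⊓ centralizer (P : Set G) with hC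
  obtain ⟨π, hπ, hker⟩ := H42.J4.exists_hom_cent hJ
  suffices key : ∀ x : G, orderOf x = 3 → IsConj a x from
    fun x y hx hy => (key x hx).symm.trans (key y hy)
  intro x hx
  obtain ⟨S, hS⟩ := (IsPGroup.of_card (n := 1) (show Nat.card ↥(zpowers x) = 3 ^ 1 by
    rw [Nat.card_zpowers, hx, pow_one])).exists_le_sylow
  obtain ⟨c, hc⟩ := MulAction.exists_smul_eq G S R
  have hxR : c * x * c⁻¹ ∈ (R : Subgroup G) := by
    have h1 : c * x * c⁻¹ ∈ ((c • S : Sylow 3 G) : Subgroup G) := by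
      rw [Sylow.coe_subgroup_smul]
      exact ⟨x, hS (mem_zpowers x), by simp⟩
    rwa [hc] at h1
  obtain ⟨h, -, hxC⟩ := H42.J4.exists_conj_mem_cent hJ (hR hxR) (by
    rw [conj_pow, ← hx, pow_orderOf_eq_one, mul_one, mul_inv_cancel])
  set y := h * (c * x * c⁻¹) * h⁻¹ with hy
  have hxy : IsConj x y := isConj_iff.2 ⟨h * c, by rw [hy]; group⟩
  refine IsConj.trans ?_ hxy.symm
  have hy3 : orderOf y = 3 := by
    rw [show y = MulAut.conj (h * c) x by rw [hy, MulAut.conj_apply]; group, MulEquiv.orderOf_eq, hx]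
  have ha3 : a ^ 3 = 1 := cube_p hJ haP
  have hPa : P = zpowers a := (eq_of_le_of_card_ge (zpowers_le.2 haP) (by
    rw [hJ.2.2.2.2.2.1, Nat.card_zpowers, orderOf_eq_prime ha3 ha1])).symm
  by_cases hyP : y ∈ P
  · obtain ⟨i, hi⟩ := mem_zpowers_iff.1 (hPa ▸ hyP)
    have hi3 : a ^ i = a ^ (i % 3) := by
      conv_lhs => rw [← Int.emod_add_mul_ediv i 3]
      rw [zpow_add, zpow_mul, zpow_ofNat, ha3, one_zpow, mul_one]
    rw [hi3] at hi
    have h0 := Int.emod_nonneg i (show (3 : ℤ) ≠ 0 by norm_num)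
    have h3 := Int.emod_lt_of_pos i (show (0 : ℤ) < 3 by norm_num)
    interval_cases hm : i % 3
    · rw [zpow_zero] at hi
      rw [← hi, orderOf_one] at hy3
      omega
    · rw [zpow_one] at hi
      rw [← hi]
    · have : y = a⁻¹ := by
        rw [← hi, zpow_ofNat, ← mul_eq_one_iff_eq_inv, ← pow_succ, show 2 + 1 = 3 from rfl, ha3]
      rw [this]
      exact isConj_inv_gen hJ haP
  refine hab.trans ?_
  have hkP : ∀ k ∈ zpowers z ⊔ P, k ^ 3 = 1 → k ∈ P := fun k hk h3 =>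
    H42.J4.mem_p_of_cube hJ hk (by rw [show 27 = 3 * 9 from rfl, pow_mul, h3, one_pow])
  have hy33 : y ^ 3 = 1 := by rw [← hy3, pow_orderOf_eq_one]
  have hord : ∀ (w : G) (hw : w ∈ C), w ^ 3 = 1 → w ∉ P → orderOf (π ⟨w, hw⟩) = 3 := by
    intro w hw hw3 hwP
    refine orderOf_eq_prime ?_ fun h => hwP (hkP w ?_ hw3)
    · rw [← map_pow, show (⟨w, hw⟩ : ↥C) ^ 3 = 1 from Subtype.ext hw3, map_one]
    · rw [← MonoidHom.mem_ker, hker, mem_subgroupOf] at h
      exact h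
  obtain ⟨t, ht⟩ := isConj_iff.1 (H42.J4.isConj_three (hord y hxC hy33 hyP) (hord b hb hb3 hbP))
  obtain ⟨t', rfl⟩ := hπ t
  set y' : G := (t' : G) * y * (t' : G)⁻¹ with hy'
  have hy'C : y' ∈ C := Subgroup.mul_mem _ (Subgroup.mul_mem _ t'.2 hxC) (Subgroup.inv_mem _ t'.2)
  have hk : b⁻¹ * y' ∈ zpowers z ⊔ P := by
    have h1 : π ((⟨b, hb⟩ : ↥C)⁻¹ * (t' * ⟨y, hxC⟩ * t'⁻¹)) = 1 := by
      rw [map_mul, map_mul, map_mul, map_inv, map_inv, ht, inv_mul_cancel]
    rw [← MonoidHom.mem_ker, hker, mem_subgroupOf] at h1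
    exact h1
  set k := b⁻¹ * y' with hkd
  have hk3 : k ^ 3 = 1 := by
    have hkb : Commute k b := H42.J4.ker_central hJ hk hb
    have h1 : (b * k) ^ 3 = 1 := by
      rw [hkd, mul_inv_cancel_left, hy', conj_pow, hy33, mul_one, mul_inv_cancel]
    rwa [hkb.symm.mul_pow, hb3, one_mul] at h1
  obtain ⟨c', hc', -, -, a₁, ha₁P, ha₁1, hPa₁, hcb⟩ := H42.J4.exists_conj_mul hJ hb hb3 hbP
  obtain ⟨i, hi⟩ := mem_zpowers_iff.1 (hPa₁ ▸ hkP k hk hk3)
  have hpow : ∀ n : ℕ, c' ^ n * b * (c' ^ n)⁻¹ = a₁ ^ n * b := by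
    intro n
    induction n with
    | zero => simp
    | succ n ih =>
      have hca : Commute c' a₁ := (H42.J4.ker_central hJ (mem_sup_right ha₁P) hc').symm
      calc c' ^ (n + 1) * b * (c' ^ (n + 1))⁻¹ = c' * (c' ^ n * b * (c' ^ n)⁻¹) * c'⁻¹ := by
            rw [pow_succ']; group
        _ = c' * (a₁ ^ n * b) * c'⁻¹ := by rw [ih]
        _ = a₁ ^ n * (c' * b * c'⁻¹) := by rw [← mul_assoc, (hca.pow_right n).eq]; group
        _ = a₁ ^ (n + 1) * b := by rw [hcb, ← mul_assoc, ← pow_succ]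
  have hi3 : a₁ ^ i = a₁ ^ (i % 3).toNat := by
    have h3 : a₁ ^ (3 : ℤ) = 1 := by rw [zpow_ofNat]; exact cube_p hJ ha₁P
    rw [← zpow_natCast, Int.toNat_of_nonneg (Int.emod_nonneg i (by norm_num))]
    conv_lhs => rw [← Int.emod_add_mul_ediv i 3]
    rw [zpow_add, zpow_mul, h3, one_zpow, mul_one]
  have hby : IsConj b y' := by
    refine isConj_iff.2 ⟨c' ^ (i % 3).toNat, ?_⟩
    rw [hpow, ← hi3, hi, (H42.J4.ker_central hJ hk hb).eq, hkd, mul_inv_cancel_left]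
  exact hby.trans (isConj_iff.2 ⟨(t' : G)⁻¹, by rw [hy']; group⟩)

end Cfsg.Agent.H82.J4Iso
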