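import Cfsg.Agent.H82.J4Iso.Fixed
import Cfsg.Agent.H42.J4.Perfect
import Cfsg.Agent.H10.Basic
import Cfsg.Agent.H85.BrauerSuzuki

/-!
Janko-four type: `z` is isolated in `X = C_G(P)`, so `X = K * C_H(P)` with `K` the odd core of `X`
and `K ⊓ C(z) = P`.
-/

set_option autoImplicit false

open Cfsg Subgroup

namespace Cfsg.Agent.H82.J4Iso

variable {G : Type*} [Group G] [Finite G] {z : G} {P : Subgroup G}

theorem zz (hJ : IsOfJankoFourTypeWith z P) : z * z = 1 := by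
  rw [← pow_two, ← hJ.1, pow_orderOf_eq_one]

theorem mem_z_cases (hJ : IsOfJankoFourTypeWith z P) {k : G} (h : k ∈ zpowers z) :
    k = 1 ∨ k = z := by
  obtain ⟨i, rfl⟩ := mem_zpowers_iff.1 h
  rcases Int.even_or_odd' i with ⟨t, rfl | rfl⟩
  · left; rw [zpow_mul, zpow_two, zz hJ, one_zpow]
  · right; rw [zpow_add, zpow_mul, zpow_two, zz hJ, one_zpow, one_mul, zpow_one]

theorem p_le_centralizer (hJ : IsOfJankoFourTypeWith z P) : P ≤ centralizer (P : Set G) :=
  (H42.J4.p_le_cent hJ).trans inf_le_right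

theorem commute_p (hJ : IsOfJankoFourTypeWith z P) {x p : G} (hx : x ∈ centralizer (P : Set G))
    (hp : p ∈ P) : x * p = p * x :=
  (mem_centralizer_iff.1 hx p hp).symm

theorem cube_p (hJ : IsOfJankoFourTypeWith z P) {p : G} (hp : p ∈ P) : p ^ 3 = 1 := by
  rw [← orderOf_dvd_iff_pow_eq_one, ← hJ.2.2.2.2.2.1]
  exact P.orderOf_dvd_natCard hp

theorem eq_one_of_sq_p (hJ : IsOfJankoFourTypeWith z P) {p : G} (hp : p ∈ P) (h2 : p * p = 1) :
    p = 1 := by
  have h3 := cube_p hJ hp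
  rwa [pow_succ, pow_two, h2, one_mul] at h3

/-- Commutation modulo `P` with an involution of `C(P)` is commutation. -/
theorem commute_of_mod_p (hJ : IsOfJankoFourTypeWith z P) {u k : G}
    (hu : u ∈ centralizer (P : Set G)) (hu2 : u * u = 1)
    (h : u * k * u⁻¹ * k⁻¹ ∈ P) : u * k = k * u := by
  set p := u * k * u⁻¹ * k⁻¹ with hp
  have hui : u⁻¹ = u := inv_eq_of_mul_eq_one_right hu2
  have h1 : u * p * u⁻¹ = p := by rw [commute_p hJ hu h, mul_inv_cancel_right]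
  have h2 : u * p * u⁻¹ = p⁻¹ := by
    rw [hp]
    calc u * (u * k * u⁻¹ * k⁻¹) * u⁻¹ = (u * u) * k * u⁻¹ * k⁻¹ * u⁻¹ := by group
      _ = k * u * k⁻¹ * u⁻¹ := by rw [hu2, one_mul, hui]
      _ = _ := by simp only [mul_inv_rev, inv_inv, mul_assoc]
  have hp1 : p = 1 := eq_one_of_sq_p hJ h (by
    nth_rw 1 [← h1]; rw [h2, inv_mul_cancel])
  rw [hp, mul_inv_eq_one, mul_inv_eq_iff_eq_mul] at hp1
  exact hp1

/-- An involution of `C_H(P)` conjugate to `z` under `C(P)` equals `z`. -/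
theorem isolated (hJ : IsOfJankoFourTypeWith z P) {x : G} (hx : x ∈ centralizer (P : Set G))
    (hc : z * (x * z * x⁻¹) = (x * z * x⁻¹) * z) : x * z * x⁻¹ = z := by
  have d := H69.J4.data_of_type hJ
  set u := x * z * x⁻¹ with hu
  have hu2 : u * u = 1 := by
    rw [hu, show x * z * x⁻¹ * (x * z * x⁻¹) = x * (z * z) * x⁻¹ by group, zz hJ, mul_one,
      mul_inv_cancel]
  have hu1 : u ≠ 1 := fun h => by
    rw [hu, conj_eq_one_iff] at h
    exact d.L.z_ne_one h
  have hzC := H42.J4.z_mem_cent hJ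
  have hxi : x⁻¹ ∈ centralizer (P : Set G) := inv_mem hx
  have huC : u ∈ centralizer ({z} : Set G) ⊓ centralizer (P : Set G) :=
    ⟨mem_centralizer_singleton_iff.2 hc.symm, mul_mem (mul_mem hx hzC.2) hxi⟩
  by_contra hne
  have huz : u ∉ zpowers z := fun h => (mem_z_cases hJ h).elim hu1 hne
  obtain ⟨a, ha, b, hb, hua, hub, hab⟩ := exists_noncomm_fixed hJ huC hu2 huz
  obtain ⟨-, hext, hE13, -, ⟨N, hEN, hNH, hHN, hN, -, hPN⟩, hP3, hfix, -, -⟩ := id hJ
  set H : Subgroup G := centralizer ({z} : Set G) with hH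
  set E : Subgroup G := twoCoreOfCentralizer z with hE
  obtain ⟨p, hp, hp3, hPp, hzp, -, -⟩ := H42.J4.exists_gen hJ
  have hpH : p ∈ H := (H42.J4.p_le_cent hJ hp).1
  have hp3' : p ^ 3 = 1 := cube_p hJ hp
  have hzE : z ∈ E := H42.J4.z_mem_core hJ
  have hup : u * p = p * u := commute_p hJ huC.2 hp
  -- the fixed group of `u` on `E`
  set D : Subgroup G := E ⊓ centralizer ({u} : Set G) with hD
  have hDm : ∀ e, e ∈ D ↔ e ∈ E ∧ u * e = e * u := fun e => by
    rw [hD, mem_inf, mem_centralizer_singleton_iff]; exact and_congr_right fun _ => eq_comm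
  have hzD : z ∈ D := (hDm z).2 ⟨hzE, hc.symm⟩
  have hbr : ∀ e ∈ D, p * e * p⁻¹ * e⁻¹ ∈ D := by
    intro e he
    have hpc : p ∈ centralizer ({u} : Set G) := mem_centralizer_singleton_iff.2 hup.symm
    refine mem_inf.2 ⟨E.mul_mem (d.L.conj_mem hpH he.1) (E.inv_mem he.1), ?_⟩
    exact Subgroup.mul_mem _ (Subgroup.mul_mem _ (Subgroup.mul_mem _ hpc (mem_inf.1 he).2)
      (Subgroup.inv_mem _ hpc)) (Subgroup.inv_mem _ (mem_inf.1 he).2)
  -- commutators with `p` lie in the conjugate core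
  have hinX : ∀ e ∈ D, x⁻¹ * (p * e * p⁻¹ * e⁻¹) * x ∈ E := by
    intro e he
    have heu := ((hDm e).1 he).2
    have hy : x⁻¹ * e * x ∈ H := by
      refine mem_centralizer_singleton_iff.2 ?_
      calc x⁻¹ * e * x * z = x⁻¹ * (e * u) * x := by rw [hu]; group
        _ = x⁻¹ * (u * e) * x := by rw [heu]
        _ = z * (x⁻¹ * e * x) := by rw [hu]; group
    have hxp : x⁻¹ * p * x = p := by
      rw [commute_p hJ hxi hp]; group
    set y := x⁻¹ * e * x with hy'
    have hyN : p * (y * p⁻¹ * y⁻¹) ∈ N :=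
      mul_mem (hPN hp) ((mem_normalizer_iff.1 (hHN hy) p⁻¹).1 (inv_mem (hPN hp)))
    have heq : x⁻¹ * (p * e * p⁻¹ * e⁻¹) * x = p * (y * p⁻¹ * y⁻¹) := by
      calc x⁻¹ * (p * e * p⁻¹ * e⁻¹) * x
          = (x⁻¹ * p * x) * (y * (x⁻¹ * p * x)⁻¹ * y⁻¹) := by rw [hy']; group
        _ = _ := by rw [hxp]
    rw [← heq] at hyN
    -- a 2-element of `N` lies in `E`
    set w := x⁻¹ * (p * e * p⁻¹ * e⁻¹) * x with hw
    obtain ⟨k, hk⟩ := d.L.isPGroup_E ⟨_, (hbr e he).1⟩
    have hwk : w ^ 2 ^ k = 1 := by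
      have h' : (p * e * p⁻¹ * e⁻¹) ^ 2 ^ k = 1 := congrArg Subtype.val hk
      rw [hw, show x⁻¹ * (p * e * p⁻¹ * e⁻¹) * x = x⁻¹ * (p * e * p⁻¹ * e⁻¹) * x⁻¹⁻¹ by group,
        conj_pow, h', mul_one, mul_inv_cancel]
    haveI : (E.subgroupOf N).Normal := ⟨fun n hn g => mem_subgroupOf.2
      (d.L.conj_mem (hNH g.2) (mem_subgroupOf.1 hn))⟩
    let q := QuotientGroup.mk' (E.subgroupOf N) (⟨w, hyN⟩ : ↥N)
    have h3 : Nat.card (↥N ⧸ E.subgroupOf N) = 3 := by
      have h := card_mul_index (E.subgroupOf N)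
      rw [Nat.card_congr (subgroupOfEquivOfLe hEN).toEquiv, hN, mul_comm 3] at h
      rw [← index_eq_card]
      exact Nat.eq_of_mul_eq_mul_left Nat.card_pos h
    have hq : orderOf q ∣ 1 := by
      have h1 : orderOf q ∣ 3 := h3 ▸ orderOf_dvd_natCard q
      have h2 : orderOf q ∣ 2 ^ k := orderOf_dvd_iff_pow_eq_one.2 (by
        show (QuotientGroup.mk' _ (⟨w, hyN⟩ : ↥N)) ^ 2 ^ k = 1
        rw [← map_pow, show (⟨w, hyN⟩ : ↥N) ^ 2 ^ k = 1 from Subtype.ext hwk, map_one])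
      have := Nat.dvd_gcd h1 h2
      rwa [Nat.Coprime.pow_right k (by norm_num : Nat.Coprime 3 2)] at this
    exact mem_subgroupOf.1 ((QuotientGroup.eq_one_iff _).1 (orderOf_eq_one_iff.1 (Nat.dvd_one.1 hq)))
  -- every element of `D` is such a commutator modulo `z`
  have hsurj : ∀ c ∈ D, ∃ e ∈ D, c = p * e * p⁻¹ * e⁻¹ ∨ c = p * e * p⁻¹ * e⁻¹ * z := by
    letI := d.barGroup
    let Db : Subgroup (H69.J4.Bar E) := (D.subgroupOf E).map (QuotientGroup.mk' (center ↥E))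
    let f : Db → Db := fun m => ⟨d.ρ ⟨p, hpH⟩ m.1 * m.1⁻¹, by
      obtain ⟨e, he, hem⟩ := m.2
      refine ⟨⟨p * e * p⁻¹, d.L.conj_mem hpH e.2⟩ * e⁻¹, mem_subgroupOf.2 ?_, ?_⟩
      · exact hbr e (mem_subgroupOf.1 he)
      · rw [← hem]; rfl⟩
    have hf : Function.Injective f := by
      rintro ⟨m, hm⟩ ⟨n, hn⟩ h
      have h' : d.ρ ⟨p, hpH⟩ m * m⁻¹ = d.ρ ⟨p, hpH⟩ n * n⁻¹ := congrArg Subtype.val h
      apply Subtype.ext
      show m = n
      have hm1 : d.ρ ⟨p, hpH⟩ (m * n⁻¹) = m * n⁻¹ := by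
        rw [map_mul, map_inv]
        rw [mul_inv_eq_iff_eq_mul] at h'
        rw [h', mul_comm (d.ρ ⟨p, hpH⟩ n * n⁻¹) m, mul_assoc, mul_assoc,
          mul_comm n⁻¹ (d.ρ ⟨p, hpH⟩ n)⁻¹, ← mul_assoc (d.ρ ⟨p, hpH⟩ n), mul_inv_cancel, one_mul]
      obtain ⟨e, he⟩ := QuotientGroup.mk_surjective (m * n⁻¹)
      rw [← he, d.ρ_mk, d.mk_eq_iff] at hm1
      have hcomm : p * (e : G) * p⁻¹ * (e : G)⁻¹ ∈ zpowers z := by
        rcases hm1 with h1 | h1
        · rw [show p * (e : G) * p⁻¹ = e from h1.symm, mul_inv_cancel]; exact one_mem _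
        · have : p * (e : G) * p⁻¹ = e * z := by
            have h1' : (e : G) = p * e * p⁻¹ * z := h1
            conv_rhs => rw [h1', mul_assoc (p * (e : G) * p⁻¹), zz hJ, mul_one]
          rw [this, d.L.commute_z e.2, mul_inv_cancel_right]
          exact mem_zpowers z
      have hpe : p * (e : G) = e * p := H42.J4.commute_of_mod hJ hpH
        (map_subtype_le _ e.2) hp3' hcomm
      have hez : (e : G) ∈ zpowers z := by
        rw [← hfix]
        refine ⟨e.2, mem_centralizer_iff.2 fun q hq => ?_⟩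
        obtain ⟨i, rfl⟩ := mem_zpowers_iff.1 (hPp ▸ hq)
        exact ((show Commute p e from hpe).zpow_left i).eq
      rw [← mul_inv_eq_one, ← he, d.mk_eq_one]
      exact mem_z_cases hJ hez
    haveI : Finite Db := Subtype.finite
    intro c hc'
    obtain ⟨⟨m, e, he, rfl⟩, hem⟩ := (Finite.injective_iff_surjective.1 hf)
      ⟨QuotientGroup.mk ⟨c, hc'.1⟩, ⟨c, hc'.1⟩, mem_subgroupOf.2 hc', rfl⟩
    refine ⟨e, mem_subgroupOf.1 he, ?_⟩
    have h' : (QuotientGroup.mk (⟨p * e * p⁻¹, d.L.conj_mem hpH e.2⟩ * e⁻¹) : H69.J4.Bar E) =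
        QuotientGroup.mk ⟨c, hc'.1⟩ := congrArg Subtype.val hem
    exact d.mk_eq_iff.1 h'
  -- two such commutators commute
  have hcomm : ∀ e ∈ D, ∀ e' ∈ D, Commute (p * e * p⁻¹ * e⁻¹) (p * e' * p⁻¹ * e'⁻¹) := by
    intro e he e' he'
    have h₁ := (hbr e he).1
    have h₂ := (hbr e' he').1
    have h₃ := hinX e he
    have h₄ := hinX e' he'
    generalize p * e * p⁻¹ * e⁻¹ = A at h₁ h₃ ⊢
    generalize p * e' * p⁻¹ * e'⁻¹ = B at h₂ h₄ ⊢
    rcases d.L.conj_cases h₁ h₂ with h | h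
    · exact h
    · exfalso
      rcases d.L.conj_cases h₃ h₄ with h' | h'
      · have : A * B * A⁻¹ = B := by
          calc A * B * A⁻¹ = x * ((x⁻¹ * A * x) * (x⁻¹ * B * x)) * x⁻¹ * A⁻¹ := by group
            _ = x * ((x⁻¹ * B * x) * (x⁻¹ * A * x)) * x⁻¹ * A⁻¹ := by rw [h']
            _ = B := by group
        rw [h] at this
        exact d.L.z_ne_one (mul_eq_right.1 this)
      · have : A * B * A⁻¹ = u * B := by
          calc A * B * A⁻¹
              = x * ((x⁻¹ * A * x) * (x⁻¹ * B * x) * (x⁻¹ * A * x)⁻¹) * x⁻¹ := by group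
            _ = x * (z * (x⁻¹ * B * x)) * x⁻¹ := by rw [h']
            _ = u * B := by rw [hu]; group
        rw [h] at this
        exact hne (mul_right_cancel this).symm
  apply hab
  obtain ⟨ea, hea, ha'⟩ := hsurj a ((hDm a).2 ⟨ha, hua⟩)
  obtain ⟨eb, heb, hb'⟩ := hsurj b ((hDm b).2 ⟨hb, hub⟩)
  have hzc : ∀ e ∈ D, Commute z (p * e * p⁻¹ * e⁻¹) := fun e he =>
    (show Commute _ z from d.L.commute_z (hbr e he).1).symm
  rcases ha' with rfl | rfl <;> rcases hb' with rfl | rfl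
  · exact (hcomm _ hea _ heb).eq
  · exact ((hcomm _ hea _ heb).mul_right (hzc _ hea).symm).eq
  · exact ((hcomm _ hea _ heb).mul_left (hzc _ heb)).eq
  · exact (((hcomm _ hea _ heb).mul_right (hzc _ hea).symm).mul_left
      ((hzc _ heb).mul_right (Commute.refl z))).eq

/-- The odd core of `C_G(P)`, as a subgroup of `G`. -/
def core (P : Subgroup G) : Subgroup G :=
  (pPrimeCore 2 ↥(centralizer (P : Set G))).map (centralizer (P : Set G)).subtype

theorem core_le : core P ≤ centralizer (P : Set G) := map_subtype_le _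

theorem core_conj {g k : G} (hg : g ∈ normalizer (P : Set G)) (hk : k ∈ core P) :
    g * k * g⁻¹ ∈ core P := by
  have hmap : ∀ g ∈ normalizer (P : Set G), ∀ y ∈ centralizer (P : Set G),
      g * y * g⁻¹ ∈ centralizer (P : Set G) := by
    intro g hg y hy
    refine mem_centralizer_iff.2 fun p hp => ?_
    have hp' : g⁻¹ * p * g ∈ P := by
      have := (mem_normalizer_iff.1 ((normalizer (P : Set G)).inv_mem hg) p).1 hp
      simpa using this
    have h := mem_centralizer_iff.1 hy _ hp'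
    calc p * (g * y * g⁻¹) = g * (g⁻¹ * p * g * y) * g⁻¹ := by group
      _ = g * (y * (g⁻¹ * p * g)) * g⁻¹ := by rw [h]
      _ = g * y * g⁻¹ * p := by group
  let e : ↥(centralizer (P : Set G)) ≃* ↥(centralizer (P : Set G)) :=
    { toFun := fun y => ⟨g * y * g⁻¹, hmap g hg y y.2⟩
      invFun := fun y => ⟨g⁻¹ * y * g⁻¹⁻¹, hmap g⁻¹ (inv_mem hg) y y.2⟩
      left_inv := fun y => Subtype.ext (by simp [mul_assoc])
      right_inv := fun y => Subtype.ext (by simp [mul_assoc])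
      map_mul' := fun a b => Subtype.ext (by simp [mul_assoc]) }
  obtain ⟨k', hk', rfl⟩ := hk
  refine ⟨e k', ?_, rfl⟩
  rw [← H10.map_pPrimeCore_equiv (p := 2) e]
  exact ⟨k', hk', rfl⟩

theorem core_conj_cent {g k : G} (hg : g ∈ centralizer (P : Set G)) (hk : k ∈ core P) :
    g * k * g⁻¹ ∈ core P :=
  core_conj (centralizer_le_normalizer _ hg) hk

theorem core_odd : Odd (Nat.card (core P)) := by
  rw [core, card_map_of_injective (centralizer (P : Set G)).subtype_injective,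
    ← Nat.coprime_two_right]
  exact H10.pPrimeCore_coprime

theorem exists_sqrt {w : G} {K : Subgroup G} (hK : Odd (Nat.card K)) (hw : w ∈ K) :
    ∃ m : ℕ, w ^ (2 * m + 1) = 1 := by
  obtain ⟨m, hm⟩ := hK.of_dvd_nat (K.orderOf_dvd_natCard hw)
  exact ⟨m, by rw [← hm, pow_orderOf_eq_one]⟩

theorem p_le_core (hJ : IsOfJankoFourTypeWith z P) : P ≤ core P := by
  intro p hp
  refine ⟨⟨p, p_le_centralizer hJ hp⟩, ?_, rfl⟩
  refine H10.le_pPrimeCore (N := P.subgroupOf (centralizer (P : Set G))) ?_ ?_ (mem_subgroupOf.2 hp)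
  · exact ⟨fun q hq g => mem_subgroupOf.2 (by
      rw [Subgroup.coe_mul, Subgroup.coe_mul, Subgroup.coe_inv,
        commute_p hJ g.2 (mem_subgroupOf.1 hq), mul_inv_cancel_right]
      exact mem_subgroupOf.1 hq)⟩
  · rw [Nat.card_congr (subgroupOfEquivOfLe (p_le_centralizer hJ)).toEquiv, hJ.2.2.2.2.2.1]
    norm_num

/-- Everything in `C(P)` commutes with `z` modulo the core. -/
theorem comm_z_mem_core (hJ : IsOfJankoFourTypeWith z P) {x : G}
    (hx : x ∈ centralizer (P : Set G)) : z * x * z⁻¹ * x⁻¹ ∈ core P := by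
  have hzX := (H42.J4.z_mem_cent hJ).2
  have hiso : IsIsolatedInvolution (⟨z, hzX⟩ : ↥(centralizer (P : Set G))) :=
    ⟨by rw [Subgroup.orderOf_mk]; exact hJ.1, fun g hg =>
      Subtype.ext (isolated hJ g.2 (congrArg Subtype.val hg.eq))⟩
  exact ⟨_, H85.zStar hiso ⟨x, hx⟩, rfl⟩

/-- `C(P)` is the product of its core and `C_H(P)`. -/
theorem exists_factor (hJ : IsOfJankoFourTypeWith z P) {x : G}
    (hx : x ∈ centralizer (P : Set G)) :
    ∃ k ∈ core P, k⁻¹ * x ∈ centralizer ({z} : Set G) ⊓ centralizer (P : Set G) := by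
  have hw := comm_z_mem_core hJ hx
  set w := z * x * z⁻¹ * x⁻¹ with hwd
  obtain ⟨m, hm⟩ := exists_sqrt core_odd hw
  have hzi : z⁻¹ = z := inv_eq_of_mul_eq_one_right (zz hJ)
  have hzwz : z * w * z = w⁻¹ := by
    calc z * w * z = (z * z) * x * z⁻¹ * x⁻¹ * z := by rw [hwd]; group
      _ = x * z * x⁻¹ * z⁻¹ := by rw [zz hJ, one_mul, hzi]
      _ = _ := by rw [hwd]; group
  set k := w ^ m with hkd
  have hk : k ∈ core P := pow_mem hw m
  have hzkz : z * k⁻¹ * z = k := by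
    have h : z * k * z = k⁻¹ := by
      calc z * k * z = (z * w * z⁻¹) ^ m := by rw [conj_pow, hzi]
        _ = k⁻¹ := by rw [hzi, hzwz, inv_pow]
    rw [← h]
    calc z * (z * k * z) * z = (z * z) * k * (z * z) := by group
      _ = k := by rw [zz hJ, one_mul, mul_one]
  have hkz : k * z * k⁻¹ = x * z * x⁻¹ := by
    have h1 : k * z * k⁻¹ = z * (k⁻¹ * k⁻¹) := by
      calc k * z * k⁻¹ = (z * k⁻¹ * z) * z * k⁻¹ := by rw [hzkz]
        _ = z * k⁻¹ * (z * z) * k⁻¹ := by group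
        _ = _ := by rw [zz hJ, mul_one, mul_assoc]
    have h2 : x * z * x⁻¹ = z * w := by
      calc x * z * x⁻¹ = (z * z) * x * z * x⁻¹ := by rw [zz hJ, one_mul]
        _ = _ := by rw [hwd, hzi]; group
    rw [h1, h2]
    congr 1
    rw [hkd, ← mul_inv_rev, ← pow_add, inv_eq_iff_mul_eq_one, ← pow_succ, ← two_mul]
    exact hm
  refine ⟨k, hk, mem_centralizer_singleton_iff.2 ?_, Subgroup.mul_mem _ (Subgroup.inv_mem _ (core_le hk)) hx⟩
  calc k⁻¹ * x * z = k⁻¹ * (x * z * x⁻¹) * x := by group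
    _ = k⁻¹ * (k * z * k⁻¹) * x := by rw [hkz]
    _ = z * (k⁻¹ * x) := by group

theorem core_inf_cent (hJ : IsOfJankoFourTypeWith z P) {k : G} (hk : k ∈ core P)
    (hk' : k ∈ centralizer ({z} : Set G)) : k ∈ P := by
  classical
  obtain ⟨π, hπ, hker⟩ := H42.J4.exists_hom_cent hJ
  let C : Subgroup G := centralizer ({z} : Set G) ⊓ centralizer (P : Set G)
  let L : Subgroup ↥C := (core P).subgroupOf C
  haveI hL : L.Normal := ⟨fun n hn g => mem_subgroupOf.2
    (core_conj_cent g.2.2 (mem_subgroupOf.1 hn))⟩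
  haveI := hL.map π hπ
  haveI := H42.J4.simple22
  have hLodd : Odd (Nat.card L) := by
    have : Nat.card L = Nat.card ↥(L.map C.subtype) :=
      (card_map_of_injective C.subtype_injective).symm
    rw [this]
    refine (core_odd (P := P)).of_dvd_nat (card_dvd_of_le ?_)
    rintro _ ⟨y, hy, rfl⟩
    exact mem_subgroupOf.1 hy
  rcases (hL.map π hπ).eq_bot_or_eq_top with h | h
  · have hkC : k ∈ C := ⟨hk', core_le hk⟩
    have h1 : (⟨k, hkC⟩ : ↥C) ∈ π.ker := by
      have := mem_map_of_mem π (show (⟨k, hkC⟩ : ↥C) ∈ L from mem_subgroupOf.2 hk)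
      rw [h, mem_bot] at this
      exact this
    rw [hker, mem_subgroupOf] at h1
    refine H42.J4.mem_p_of_cube hJ h1 ?_
    have h3 := H42.J4.cube_mem_z hJ h1
    have : k ^ 3 = 1 := by
      rcases mem_z_cases hJ h3 with e | e
      · exact e
      · exfalso
        have hd : orderOf z ∣ Nat.card (core P) := e ▸ (core P).orderOf_dvd_natCard (pow_mem hk 3)
        rw [hJ.1] at hd
        exact absurd (core_odd.of_dvd_nat hd) (by decide)
    rw [show 27 = 3 * 9 from rfl, pow_mul, this, one_pow]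
  · exfalso
    have h2 := hLodd.of_dvd_nat (Subgroup.card_map_dvd L π)
    rw [h, card_top, H25.M22.card22] at h2
    exact absurd h2 (by decide)

end Cfsg.Agent.H82.J4Iso
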