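import Cfsg.Agent.H82.J4Iso.Main

/-!
Janko-four type, given one involution of `C_H(P)` outside `⟨z⟩` conjugate to `z`: `C_H(P)` is
perfect and the normaliser of `P` lies in `H`.
-/

set_option autoImplicit false

open Cfsg Subgroup
open scoped commutatorElement

namespace Cfsg.Agent.H82.J4Iso

open H25.M22 (G22)

variable {G : Type*} [Group G] [Finite G] {z : G} {P : Subgroup G}

/-- An element of `C(P)` fixing such an involution and commuting with `z` modulo the core lies
in `H`. -/
theorem fixed_mem_cent (hJ : IsOfJankoFourTypeWith z P) {u : G}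
    (hu : u ∈ centralizer ({z} : Set G) ⊓ centralizer (P : Set G)) (huz : u ∉ zpowers z)
    (hconj : IsConj u z) {y : G} (hy : y ∈ centralizer (P : Set G)) (hyu : u * y = y * u) :
    y ∈ centralizer ({z} : Set G) := by
  have hzu : Commute u z := mem_centralizer_singleton_iff.1 hu.1
  have hcu : u * (z * y * z⁻¹ * y⁻¹) = z * y * z⁻¹ * y⁻¹ * u :=
    ((hzu.mul_right (show Commute u y from hyu)).mul_right hzu.inv_right).mul_right
      (show Commute u y from hyu).inv_right
  have hp := fixed_core hJ hu huz hconj (comm_z_mem_core hJ hy) hcu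
  exact mem_centralizer_singleton_iff.2
    (commute_of_mod_p hJ (H42.J4.z_mem_cent hJ).2 (zz hJ) hp).symm

/-- `C_H(P)` is perfect as soon as one involution outside `⟨z⟩` is fused to `z`. -/
theorem perfect_of_fusion (hJ : IsOfJankoFourTypeWith z P) {u : G}
    (hu : u ∈ centralizer ({z} : Set G) ⊓ centralizer (P : Set G)) (huz : u ∉ zpowers z)
    (hconj : IsConj u z) :
    ⁅centralizer ({z} : Set G) ⊓ centralizer (P : Set G),
        centralizer ({z} : Set G) ⊓ centralizer (P : Set G)⁆ =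
      centralizer ({z} : Set G) ⊓ centralizer (P : Set G) := by
  classical
  obtain ⟨a, haP, ha, hPa, hza, -, -⟩ := H42.J4.exists_gen hJ
  obtain ⟨g, hgu, hb⟩ := exists_conjugator hJ hu hconj haP
  set H : Subgroup G := centralizer ({z} : Set G) with hH
  set C : Subgroup G := H ⊓ centralizer (P : Set G) with hC
  set b : G := g * a * g⁻¹ with hbdef
  have hb3 : b ^ 3 = 1 := by rw [hbdef, conj_pow, cube_p hJ haP, mul_one, mul_inv_cancel]
  have hbP : b ∉ P := fun h => not_normalizer hJ hu huz hgu (mem_normalizer_of_gen hJ haP hPa h)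
  set z₁ : G := g * z * g⁻¹ with hz₁def
  have hback : ∀ x, x ∈ H → x * b = b * x → g⁻¹ * x * g ∈ C := by
    intro x hxH hx
    have hxa : g⁻¹ * x * g * a = a * (g⁻¹ * x * g) := by
      calc g⁻¹ * x * g * a = g⁻¹ * (x * b) * g := by rw [hbdef]; group
        _ = g⁻¹ * (b * x) * g := by rw [hx]
        _ = _ := by rw [hbdef]; group
    have hcP : g⁻¹ * x * g ∈ centralizer (P : Set G) := mem_centralizer_iff.2 fun p hp => by
      obtain ⟨i, rfl⟩ := mem_zpowers_iff.1 (hPa ▸ hp)
      exact ((show Commute (g⁻¹ * x * g) a from hxa).zpow_right i).eq.symm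
    have hxz : x * z = z * x := mem_centralizer_singleton_iff.1 hxH
    refine ⟨fixed_mem_cent hJ hu huz hconj hcP ?_, hcP⟩
    calc u * (g⁻¹ * x * g) = g⁻¹ * (g * u * g⁻¹ * x) * g := by group
      _ = g⁻¹ * (x * (g * u * g⁻¹)) * g := by rw [hgu, hxz]
      _ = g⁻¹ * x * g * u := by group
  have hcen : ∀ x ∈ H, x * b = b * x → z₁ * x = x * z₁ := by
    intro x hxH hx
    have h1 : g⁻¹ * x * g * z = z * (g⁻¹ * x * g) :=
      mem_centralizer_singleton_iff.1 (hback x hxH hx).1
    calc z₁ * x = g * (z * (g⁻¹ * x * g)) * g⁻¹ := by rw [hz₁def]; group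
      _ = g * (g⁻¹ * x * g * z) * g⁻¹ := by rw [h1]
      _ = x * z₁ := by rw [hz₁def]; group
  have hz₁b : z₁ * b = b * z₁ := by
    calc z₁ * b = g * (z * a) * g⁻¹ := by rw [hz₁def, hbdef]; group
      _ = g * (a * z) * g⁻¹ := by rw [hza.eq]
      _ = b * z₁ := by rw [hz₁def, hbdef]; group
  have hz₁H : z₁ ∈ H := mem_centralizer_singleton_iff.2
    (hcen z (mem_centralizer_singleton_iff.2 rfl) (mem_centralizer_singleton_iff.1 hb.1).symm)
  have hz₁2 : z₁ * z₁ = 1 := by
    rw [hz₁def, show g * z * g⁻¹ * (g * z * g⁻¹) = g * (z * z) * g⁻¹ by group, zz hJ, mul_one,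
      mul_inv_cancel]
  have hz₁z : z₁ ∉ zpowers z := by
    intro hmem
    rcases mem_z_cases hJ hmem with h | h
    · rw [hz₁def, conj_eq_one_iff] at h
      have := hJ.1
      rw [h, orderOf_one] at this
      omega
    · have : g * u * g⁻¹ = g * z * g⁻¹ := by rw [hgu]; exact h.symm
      exact huz ((mul_left_cancel (mul_right_cancel this)).symm ▸ mem_zpowers z)
  have hm := H42.J4.mem_commutator_cent hJ hb hb3 hbP hz₁H hz₁b hcen hz₁2 hz₁z
  set K : Subgroup G := H ⊓ centralizer ({b} : Set G) with hK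
  have hle : K.map (MulAut.conj g⁻¹).toMonoidHom ≤ C := by
    rintro _ ⟨x, hx, rfl⟩
    have := hback x hx.1 (mem_centralizer_singleton_iff.1 hx.2)
    simpa using this
  have hz' : z ∈ ⁅C, C⁆ := by
    have h := mem_map_of_mem (MulAut.conj g⁻¹).toMonoidHom hm
    rw [map_commutator] at h
    have h' := commutator_mono hle hle h
    have e : (MulAut.conj g⁻¹).toMonoidHom z₁ = z := by
      show g⁻¹ * z₁ * g⁻¹⁻¹ = z
      rw [hz₁def]; group
    rwa [e] at h'
  exact H42.J4.perfect_of_z_mem hJ hz'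

/-- An involution inverting the core modulo `P`. -/
theorem exists_inverted (hJ : IsOfJankoFourTypeWith z P) {t k : G}
    (ht : t ∈ centralizer (P : Set G)) (ht2 : t * t = 1)
    (hfix : ∀ x ∈ core P, t * x = x * t → x ∈ P) (hk : k ∈ core P) :
    ∃ p ∈ P, ∃ j ∈ core P, t * j * t = j⁻¹ ∧ k = p * j := by
  have hti : t⁻¹ = t := inv_eq_of_mul_eq_one_right ht2
  have hktk : t * k * t ∈ core P := by
    have := core_conj_cent ht hk
    rwa [hti] at this
  set w := k⁻¹ * (t * k * t) with hwd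
  have hw : w ∈ core P := Subgroup.mul_mem _ (Subgroup.inv_mem _ hk) hktk
  obtain ⟨m, hm⟩ := exists_sqrt core_odd hw
  have htwt : t * w * t = w⁻¹ := by
    calc t * w * t = t * k⁻¹ * t * k * (t * t) := by rw [hwd]; group
      _ = t * k⁻¹ * t * k := by rw [ht2, mul_one]
      _ = _ := by rw [hwd]; simp only [mul_inv_rev, inv_inv, hti, mul_assoc]
  set j := w ^ m with hj
  have htj : t * j * t = j⁻¹ := by
    calc t * j * t = (t * w * t⁻¹) ^ m := by rw [conj_pow, hti]
      _ = _ := by rw [hti, htwt, inv_pow]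
  have hjm : j ∈ core P := pow_mem hw m
  have hwj : w * j = j⁻¹ := by
    rw [hj, ← pow_succ', eq_inv_iff_mul_eq_one, ← pow_add,
      show m + 1 + m = 2 * m + 1 by omega]
    exact hm
  have hc : k * j⁻¹ ∈ P := by
    refine hfix _ (Subgroup.mul_mem _ hk (Subgroup.inv_mem _ hjm)) ?_
    have h : t * (k * j⁻¹) * t = k * j⁻¹ := by
      calc t * (k * j⁻¹) * t = (t * k * t) * (t⁻¹ * j⁻¹ * t) := by group
        _ = (t * k * t) * (t * j * t)⁻¹ := by rw [hti]; simp only [mul_inv_rev, hti, mul_assoc]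
        _ = k * (w * j) := by rw [htj, inv_inv, hwd]; group
        _ = k * j⁻¹ := by rw [hwj]
    calc t * (k * j⁻¹) = t * (k * j⁻¹) * (t * t) := by rw [ht2, mul_one]
      _ = (t * (k * j⁻¹) * t) * t := by group
      _ = k * j⁻¹ * t := by rw [h]
  exact ⟨k * j⁻¹, hc, j, hjm, htj, by group⟩

/-- **One fused involution gives the isolation of `P`.** -/
theorem main_of_fusion (hJ : IsOfJankoFourTypeWith z P) {u : G}
    (hu : u ∈ centralizer ({z} : Set G) ⊓ centralizer (P : Set G)) (huz : u ∉ zpowers z)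
    (hconj : IsConj u z) :
    (⁅centralizer ({z} : Set G) ⊓ centralizer (P : Set G),
        centralizer ({z} : Set G) ⊓ centralizer (P : Set G)⁆ =
      centralizer ({z} : Set G) ⊓ centralizer (P : Set G)) ∧
    normalizer (P : Set G) ≤ centralizer ({z} : Set G) := by
  classical
  have hperf := perfect_of_fusion hJ hu huz hconj
  refine ⟨hperf, ?_⟩
  have hu2 : u * u = 1 := by
    obtain ⟨g, hg⟩ := isConj_iff.1 hconj
    refine conj_eq_one_iff.1 (show g * (u * u) * g⁻¹ = 1 from ?_)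
    calc g * (u * u) * g⁻¹ = (g * u * g⁻¹) * (g * u * g⁻¹) := by group
      _ = 1 := by rw [hg, zz hJ]
  set C : Subgroup G := centralizer ({z} : Set G) ⊓ centralizer (P : Set G) with hC
  have hzC : z ∈ C := H42.J4.z_mem_cent hJ
  have hui : u⁻¹ = u := inv_eq_of_mul_eq_one_right hu2
  have hzu : Commute u z := mem_centralizer_singleton_iff.1 hu.1
  set v := u * z with hv
  have hvC : v ∈ C := Subgroup.mul_mem _ hu hzC
  have hv2 : v * v = 1 := by
    rw [hv, hzu.symm.mul_mul_mul_comm, hu2, zz hJ, one_mul]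
  have hfixz : ∀ x ∈ core P, z * x = x * z → x ∈ P := fun x hx h =>
    core_inf_cent hJ hx (mem_centralizer_singleton_iff.2 h.symm)
  have hvk : ∀ k ∈ core P, v * k = k * v := by
    intro k hk
    obtain ⟨p, hp, j, hj, hjt, rfl⟩ := exists_inverted hJ hu.2 hu2
      (fun x hx h => fixed_core hJ hu huz hconj hx h) hk
    obtain ⟨q, hq, i, hi, hit, rfl⟩ := exists_inverted hJ hzC.2 (zz hJ) hfixz hj
    have hqu : u * q = q * u := commute_p hJ hu.2 hq
    have hqi : q⁻¹ * i⁻¹ = i⁻¹ * q⁻¹ :=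
      (commute_p hJ (inv_mem (core_le hi)) (inv_mem hq)).symm
    have huiu : u * i * u = q⁻¹ * q⁻¹ * i⁻¹ := by
      have h : q * (u * i * u) = q⁻¹ * i⁻¹ := by
        calc q * (u * i * u) = (q * u) * i * u := by group
          _ = u * (q * i) * u := by rw [← hqu]; group
          _ = _ := by rw [hjt, mul_inv_rev, hqi]
      calc u * i * u = q⁻¹ * (q * (u * i * u)) := by group
        _ = _ := by rw [h, ← mul_assoc]
    have hvi : v * i = i * v := by
      refine commute_of_mod_p hJ hvC.2 hv2 ?_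
      have h2 : v * i * v⁻¹ * i⁻¹ = q * q := by
        have hvv : v⁻¹ = z * u := by rw [hv, mul_inv_rev, hui, inv_eq_of_mul_eq_one_right (zz hJ)]
        calc v * i * v⁻¹ * i⁻¹ = u * (z * i * z) * u * i⁻¹ := by rw [hvv, hv]; group
          _ = (u * i * u)⁻¹ * i⁻¹ := by rw [hit]; simp only [mul_inv_rev, hui, mul_assoc]
          _ = i * (q * q) * i⁻¹ := by rw [huiu]; simp only [mul_inv_rev, inv_inv, mul_assoc]
          _ = q * q := by
            rw [commute_p hJ (core_le hi) (Subgroup.mul_mem _ hq hq), mul_inv_cancel_right]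
      rw [h2]; exact Subgroup.mul_mem _ hq hq
    have hvp : ∀ p ∈ P, Commute v p := fun p hp => commute_p hJ hvC.2 hp
    exact ((hvp p hp).mul_right ((hvp q hq).mul_right hvi)).eq
  -- the elements of `C` fixing the core
  let V : Subgroup G := C ⊓ centralizer ((core P : Subgroup G) : Set G)
  obtain ⟨π, hπ, hker⟩ := H42.J4.exists_hom_cent hJ
  have hVn : ((V.subgroupOf C).map π).Normal := by
    refine Normal.map ⟨fun n hn c => mem_subgroupOf.2 (mem_inf.2 ⟨(c * n * c⁻¹).2, ?_⟩)⟩ π hπ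
    refine mem_centralizer_iff.2 fun k hk => ?_
    have hk' : (c : G)⁻¹ * k * (c : G) ∈ core P := by
      have := core_conj_cent (Subgroup.inv_mem _ c.2.2) hk
      simpa using this
    have h := mem_centralizer_iff.1 (mem_subgroupOf.1 hn).2 _ hk'
    show k * ((c : G) * n * (c : G)⁻¹) = (c : G) * n * (c : G)⁻¹ * k
    calc k * ((c : G) * n * (c : G)⁻¹) = c * ((c : G)⁻¹ * k * c * n) * (c : G)⁻¹ := by group
      _ = c * (n * ((c : G)⁻¹ * k * c)) * (c : G)⁻¹ := by rw [h]
      _ = _ := by group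
  have hvV : (⟨v, hvC⟩ : ↥C) ∈ V.subgroupOf C :=
    mem_subgroupOf.2 (mem_inf.2 ⟨hvC, mem_centralizer_iff.2 fun k hk => (hvk k hk).symm⟩)
  haveI := H42.J4.simple22
  have htop : (V.subgroupOf C).map π = ⊤ := by
    refine hVn.eq_bot_or_eq_top.resolve_left fun h => huz ?_
    have h1 := mem_map_of_mem π hvV
    rw [h, mem_bot, ← MonoidHom.mem_ker, hker, mem_subgroupOf] at h1
    refine cube_mem_kernel hJ hu2 ?_
    have : u = v * z⁻¹ := by rw [hv, mul_inv_cancel_right]
    rw [this]
    exact Subgroup.mul_mem _ h1 (Subgroup.inv_mem _ (mem_sup_left (mem_zpowers z)))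
  have hdec : ∀ c ∈ C, ∃ w ∈ V, ∃ k ∈ zpowers z ⊔ P, c = w * k := by
    intro c hc
    obtain ⟨w, hw, hwc⟩ : π ⟨c, hc⟩ ∈ (V.subgroupOf C).map π := htop ▸ mem_top _
    refine ⟨w, mem_subgroupOf.1 hw, (w : G)⁻¹ * c, ?_, by group⟩
    have : w⁻¹ * ⟨c, hc⟩ ∈ π.ker := by
      rw [MonoidHom.mem_ker, map_mul, map_inv, hwc, inv_mul_cancel]
    rwa [hker, mem_subgroupOf] at this
  have hzV : z ∈ V := by
    have hle : ⁅C, C⁆ ≤ V := by
      rw [commutator_le]
      intro c hc d hd
      obtain ⟨w, hw, k, hk, rfl⟩ := hdec c hc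
      obtain ⟨x, hx, l, hl, rfl⟩ := hdec d hd
      have : ⁅w * k, x * l⁆ = ⁅w, x⁆ := by
        have hkC := H42.J4.ker_le hJ hk
        have hlC := H42.J4.ker_le hJ hl
        have h1 := H42.J4.ker_central hJ hk hx.1
        have h2 := H42.J4.ker_central hJ hl hw.1
        have h3 := H42.J4.ker_central hJ hk hlC
        rw [commutatorElement_def, commutatorElement_def, mul_inv_rev, mul_inv_rev]
        calc w * k * (x * l) * (k⁻¹ * w⁻¹) * (l⁻¹ * x⁻¹)
            = w * (k * (x * l)) * k⁻¹ * w⁻¹ * l⁻¹ * x⁻¹ := by group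
          _ = w * x * (l * w⁻¹) * l⁻¹ * x⁻¹ := by rw [(h1.mul_right h3).eq]; group
          _ = w * x * w⁻¹ * x⁻¹ := by rw [h2.inv_right.eq]; group
      rw [this, commutatorElement_def]
      exact Subgroup.mul_mem _ (Subgroup.mul_mem _ (Subgroup.mul_mem _ hw hx)
        (Subgroup.inv_mem _ hw)) (Subgroup.inv_mem _ hx)
    exact hle (hperf.symm ▸ hzC)
  have hcoreP : ∀ k ∈ core P, k ∈ P := fun k hk =>
    hfixz k hk (mem_centralizer_iff.1 hzV.2 k hk).symm
  have hXC : ∀ x ∈ centralizer (P : Set G), x ∈ centralizer ({z} : Set G) := by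
    intro x hx
    obtain ⟨k, hk, hkx⟩ := exists_factor hJ hx
    have hkH : k ∈ centralizer ({z} : Set G) := (H42.J4.p_le_cent hJ (hcoreP k hk)).1
    have := Subgroup.mul_mem _ hkH hkx.1
    rwa [mul_inv_cancel_left] at this
  intro g hg
  set u' := g⁻¹ * z * g with hu'
  have hu'X : u' ∈ centralizer (P : Set G) := by
    have := cent_conj (inv_mem hg) hzC.2
    rwa [inv_inv] at this
  have hu'C : u' ∈ C := ⟨hXC _ hu'X, hu'X⟩
  have hu'z : g * u' * g⁻¹ = z := by rw [hu']; group
  have hz' : u' ∈ zpowers z := by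
    by_contra hcon
    exact not_normalizer hJ hu'C hcon hu'z hg
  rcases mem_z_cases hJ hz' with h | h
  · exfalso
    rw [h, mul_one, mul_inv_cancel] at hu'z
    have := hJ.1
    rw [← hu'z, orderOf_one] at this
    omega
  · refine mem_centralizer_singleton_iff.2 ?_
    rw [h, mul_inv_eq_iff_eq_mul] at hu'z
    exact hu'z

end Cfsg.Agent.H82.J4Iso
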