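import Cfsg.Agent.H69.J4.Main
import Cfsg.Agent.H42.J4.Cent

/-!
Janko-four type: the fixed group on `E` of an involution of `C_H(P)` outside `⟨z⟩` is not abelian
(every linear involution fixes at least 256 elements of `E / Z(E)`).
-/

set_option autoImplicit false

open Cfsg Subgroup

namespace Cfsg.Agent.H82.J4Iso

open H69.J4

def fixLen (A : List ℕ) : ℕ := ((List.range 4096).filter fun v => Nat.beq (ap A v) v).length

theorem fix_big : mInv.all (fun A => Nat.ble 256 (fixLen A)) = true := by decide +kernel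

variable {G : Type*} [Group G] [Finite G] {z : G} {P : Subgroup G}

theorem exists_noncomm_fixed (hJ : IsOfJankoFourTypeWith z P) {u : G}
    (hu : u ∈ centralizer ({z} : Set G) ⊓ centralizer (P : Set G)) (hu2 : u * u = 1)
    (huz : u ∉ zpowers z) :
    ∃ a ∈ twoCoreOfCentralizer z, ∃ b ∈ twoCoreOfCentralizer z,
      u * a = a * u ∧ u * b = b * u ∧ a * b ≠ b * a := by
  classical
  have d := data_of_type hJ
  obtain ⟨N, e, o⟩ := outer_of_type hJ
  obtain ⟨R⟩ := exists_real o d
  set E := twoCoreOfCentralizer z with hE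
  set uH : ↥(centralizer ({z} : Set G)) := ⟨u, hu.1⟩ with huH
  have huY : d.ρ uH ∈ Outer.Y d := ⟨uH, mem_subgroupOf.2 hu.2, rfl⟩
  have hu1 : d.ρ uH ≠ 1 := fun h => by
    have huE : u ∈ E := d.mem_ker_iff.1 h
    exact huz (hJ.2.2.2.2.2.2.1 ▸ ⟨huE, hu.2⟩)
  have hsq : d.ρ uH * d.ρ uH = 1 := by
    rw [← map_mul, show uH * uH = 1 from Subtype.ext hu2, map_one]
  obtain ⟨y, hy, hyQ⟩ := R.exists_conj_le_Q o (B := zpowers (d.ρ uH)) (zpowers_le.2 huY)
    (IsPGroup.of_card (n := 1) (by
      rw [Nat.card_zpowers, pow_one]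
      exact orderOf_eq_prime (by rw [pow_two]; exact hsq) hu1))
  set t := y * d.ρ uH * y⁻¹ with ht
  have ht2 : t * t = 1 := by
    rw [ht, show y * d.ρ uH * y⁻¹ * (y * d.ρ uH * y⁻¹) = y * (d.ρ uH * d.ρ uH) * y⁻¹ by group,
      hsq, mul_one, mul_inv_cancel]
  have ht1 : t ≠ 1 := fun h => hu1 (conj_eq_one_iff.1 h)
  have htI := R.mem_mInv (hyQ _ (mem_zpowers _)) ht2 ht1
  have h256 : 256 ≤ fixLen (R.code t) := by
    simpa using (List.all_eq_true.1 fix_big) _ htI
  let L := (List.range 4096).filter fun v => Nat.beq (ap (R.code t) v) v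
  let F : Set (Bar E) := {m | d.ρ uH m = m}
  have hF : 256 ≤ Nat.card F := by
    have hmem : ∀ v ∈ L, y⁻¹ (R.φ v) ∈ F := by
      intro v hv
      have h := Nat.eq_of_beq_eq_true (List.mem_filter.1 hv).2
      have htv : t (R.φ v) = R.φ v := by rw [R.apply, h]
      show d.ρ uH (y⁻¹ (R.φ v)) = y⁻¹ (R.φ v)
      have h1 : d.ρ uH * y⁻¹ = y⁻¹ * t := by rw [ht]; group
      calc d.ρ uH (y⁻¹ (R.φ v)) = (d.ρ uH * y⁻¹) (R.φ v) := rfl
        _ = y⁻¹ (t (R.φ v)) := by rw [h1]; rfl
        _ = _ := by rw [htv]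
    let g : {v // v ∈ L} → F := fun v => ⟨_, hmem v.1 v.2⟩
    have hg : Function.Injective g := fun v w h => by
      have h' : y⁻¹ (R.φ v.1) = y⁻¹ (R.φ w.1) := congrArg Subtype.val h
      exact Subtype.ext (R.φ_inj (List.mem_range.1 (List.mem_filter.1 v.2).1)
        (List.mem_range.1 (List.mem_filter.1 w.2).1) ((y⁻¹).injective h'))
    haveI : Finite F := Subtype.finite
    refine le_trans ?_ (Nat.card_le_card_of_injective g hg)
    rw [Nat.card_congr (Equiv.subtypeEquivRight (fun v => (List.mem_toFinset (l := L)).symm)),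
      Nat.card_eq_finsetCard, List.toFinset_card_of_nodup (List.nodup_range.filter _)]
    exact h256
  by_contra hall
  push Not at hall
  set K : Subgroup G := E ⊓ centralizer ({u} : Set G) with hK
  have hKc : ∀ a ∈ K, ∀ b ∈ K, a * b = b * a := fun a ha b hb =>
    hall a ha.1 b hb.1 (mem_centralizer_singleton_iff.1 ha.2).symm
      (mem_centralizer_singleton_iff.1 hb.2).symm
  have hK128 := (d.abelian_bound inf_le_left hKc).1
  have hzu : Commute z u := (mem_centralizer_singleton_iff.1 hu.1).symm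
  set KE : Subgroup ↥E := K.subgroupOf E with hKE
  set Kb : Subgroup (Bar E) := KE.map (QuotientGroup.mk' (center ↥E)) with hKb
  have hcK : center ↥E ≤ KE := fun c hc => by
    refine mem_subgroupOf.2 ⟨c.2, mem_centralizer_singleton_iff.2 ?_⟩
    rcases d.mem_center_iff'.1 hc with h | h
    · rw [h, one_mul, mul_one]
    · rw [h]; exact hzu.eq
  have hKb64 : Nat.card Kb ≤ 64 := by
    have h1 := KE.card_mul_index
    have h2 := Kb.card_mul_index
    have hi : Kb.index = KE.index := index_map_eq _ (QuotientGroup.mk'_surjective _)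
      (by rw [QuotientGroup.ker_mk']; exact hcK)
    have h3 : Nat.card KE ≤ 128 := by
      rw [hKE, Nat.card_congr (subgroupOfEquivOfLe inf_le_left).toEquiv]; exact hK128
    rw [d.cardE] at h1
    rw [d.card_bar, hi] at h2
    have hi0 : 0 < KE.index := Nat.pos_of_ne_zero Subgroup.index_ne_zero_of_finite
    nlinarith
  have hconj : ∀ x : ↥E, d.ρ uH (QuotientGroup.mk x) = QuotientGroup.mk x →
      u * x = x * u ∨ u * x = x * u * z := by
    intro x hx
    rw [d.ρ_mk, d.mk_eq_iff] at hx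
    rcases hx with h | h
    · left
      calc u * x = u * x * u⁻¹ * u := by group
        _ = x * u := by rw [← show (x : G) = u * x * u⁻¹ from h]
    · right
      have h' : u * x * u⁻¹ = x * z := by
        have hzz : z * z = 1 := d.L.zz
        rw [show (x : G) * z = u * x * u⁻¹ * z * z by rw [← show (x : G) = u * x * u⁻¹ * z from h],
          mul_assoc (u * x * u⁻¹), hzz, mul_one]
      calc u * x = u * x * u⁻¹ * u := by group
        _ = x * u * z := by rw [h', mul_assoc, hzu.eq, mul_assoc]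
  have hsub : ∃ m₀ : Bar E, ∀ m ∈ F, m ∈ Kb ∨ m * m₀⁻¹ ∈ Kb := by
    by_cases hex : ∃ x : ↥E, u * x = x * u * z
    · obtain ⟨x₀, hx₀⟩ := hex
      refine ⟨QuotientGroup.mk x₀, fun m hm => ?_⟩
      obtain ⟨x, rfl⟩ := QuotientGroup.mk_surjective m
      rcases hconj x hm with h | h
      · exact Or.inl ⟨x, mem_subgroupOf.2 ⟨x.2, mem_centralizer_singleton_iff.2 h.symm⟩, rfl⟩
      · refine Or.inr ⟨x * x₀⁻¹, mem_subgroupOf.2 ⟨(x * x₀⁻¹ : ↥E).2,
          mem_centralizer_singleton_iff.2 ?_⟩, rfl⟩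
        have hc1 : u * (x : G) * u⁻¹ = x * z := by
          rw [h, mul_assoc (x : G), ← hzu.eq]; group
        have hc2 : u * (x₀ : G) * u⁻¹ = x₀ * z := by
          rw [hx₀, mul_assoc (x₀ : G), ← hzu.eq]; group
        have e1 : u * ((x : G) * (x₀ : G)⁻¹) * u⁻¹ = x * (x₀ : G)⁻¹ := by
          calc u * ((x : G) * (x₀ : G)⁻¹) * u⁻¹
              = (u * (x : G) * u⁻¹) * (u * (x₀ : G) * u⁻¹)⁻¹ := by group
            _ = _ := by rw [hc1, hc2]; group
        show (x : G) * (x₀ : G)⁻¹ * u = u * ((x : G) * (x₀ : G)⁻¹)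
        conv_lhs => rw [← e1]
        group
    · push Not at hex
      refine ⟨1, fun m hm => Or.inl ?_⟩
      obtain ⟨x, rfl⟩ := QuotientGroup.mk_surjective m
      exact ⟨x, mem_subgroupOf.2 ⟨x.2, mem_centralizer_singleton_iff.2
        ((hconj x hm).resolve_right (hex x)).symm⟩, rfl⟩
  obtain ⟨m₀, hm₀⟩ := hsub
  let g : F → Kb ⊕ Kb := fun m =>
    if h : m.1 ∈ Kb then Sum.inl ⟨m.1, h⟩ else Sum.inr ⟨m.1 * m₀⁻¹, (hm₀ m.1 m.2).resolve_left h⟩
  have hg : Function.Injective g := by
    rintro ⟨m, hm⟩ ⟨n, hn⟩ h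
    simp only [g] at h
    split_ifs at h with h1 h2
    · have h' := congrArg Subtype.val (Sum.inl.inj h)
      exact Subtype.ext h'
    · have h' := congrArg Subtype.val (Sum.inr.inj h)
      exact Subtype.ext (mul_right_cancel h')
  haveI : Finite Kb := Subtype.finite
  have := Nat.card_le_card_of_injective g hg
  rw [Nat.card_sum] at this
  omega

end Cfsg.Agent.H82.J4Iso
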