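import Cfsg.Agent.H82.J4Iso.Core

/-!
Janko-four type: if an involution of `C_H(P)` outside `⟨z⟩` is conjugate to `z`, then `C_H(P)` is
perfect and `N_G(P) ≤ H`.
-/

set_option autoImplicit false

open Cfsg Subgroup
open scoped commutatorElement

namespace Cfsg.Agent.H82.J4Iso

open H25.M22 (G22)

variable {G : Type*} [Group G] [Finite G] {z : G} {P : Subgroup G}

theorem cent_conj {g y : G} (hg : g ∈ normalizer (P : Set G)) (hy : y ∈ centralizer (P : Set G)) :
    g * y * g⁻¹ ∈ centralizer (P : Set G) := by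
  refine mem_centralizer_iff.2 fun p hp => ?_
  have hp' : g⁻¹ * p * g ∈ P := by
    have := (mem_normalizer_iff.1 ((normalizer (P : Set G)).inv_mem hg) p).1 hp
    simpa using this
  have h := mem_centralizer_iff.1 hy _ hp'
  calc p * (g * y * g⁻¹) = g * (g⁻¹ * p * g * y) * g⁻¹ := by group
    _ = g * (y * (g⁻¹ * p * g)) * g⁻¹ := by rw [h]
    _ = g * y * g⁻¹ * p := by group

theorem cube_mem_kernel (hJ : IsOfJankoFourTypeWith z P) {u : G} (hu2 : u * u = 1)
    (hk : u ∈ zpowers z ⊔ P) : u ∈ zpowers z := by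
  have h3 := H42.J4.cube_mem_z hJ hk
  rwa [pow_succ, pow_two, hu2, one_mul] at h3

/-- No element of `N(P)` carries an involution of `C_H(P)` outside `⟨z⟩` to `z`. -/
theorem not_normalizer (hJ : IsOfJankoFourTypeWith z P) {u g : G}
    (hu : u ∈ centralizer ({z} : Set G) ⊓ centralizer (P : Set G)) (huz : u ∉ zpowers z)
    (hgu : g * u * g⁻¹ = z) : g ∉ normalizer (P : Set G) := by
  intro hg
  have hu2 : u * u = 1 := by
    have h : g * (u * u) * g⁻¹ = 1 := by
      calc g * (u * u) * g⁻¹ = (g * u * g⁻¹) * (g * u * g⁻¹) := by group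
        _ = 1 := by rw [hgu, zz hJ]
    exact conj_eq_one_iff.1 h
  obtain ⟨π, hπ, hker⟩ := H42.J4.exists_hom_cent hJ
  have hcen : ∀ c ∈ centralizer ({z} : Set G) ⊓ centralizer (P : Set G), u * c = c * u := by
    intro c hc
    refine commute_of_mod_p hJ hu.2 hu2 (core_inf_cent hJ ?_ ?_)
    · have h := core_conj (inv_mem hg) (comm_z_mem_core hJ (cent_conj hg hc.2))
      have e : g⁻¹ * (z * (g * c * g⁻¹) * z⁻¹ * (g * c * g⁻¹)⁻¹) * g⁻¹⁻¹ = u * c * u⁻¹ * c⁻¹ := by
        rw [← hgu]; group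
      rwa [e] at h
    · exact Subgroup.mul_mem _ (Subgroup.mul_mem _ (Subgroup.mul_mem _ hu.1 hc.1)
        (Subgroup.inv_mem _ hu.1)) (Subgroup.inv_mem _ hc.1)
  have hπu : π ⟨u, hu⟩ = 1 := by
    have : π ⟨u, hu⟩ ∈ center G22 := mem_center_iff.2 fun v => by
      obtain ⟨c, rfl⟩ := hπ v
      rw [← map_mul, ← map_mul]
      exact congrArg π (Subtype.ext (hcen c c.2).symm)
    rwa [H42.J4.center22, mem_bot] at this
  rw [← MonoidHom.mem_ker, hker, mem_subgroupOf] at hπu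
  exact huz (cube_mem_kernel hJ hu2 hπu)

theorem mem_normalizer_of_gen (hJ : IsOfJankoFourTypeWith z P) {a g : G} (ha : a ∈ P)
    (hPa : P = zpowers a) (h : g * a * g⁻¹ ∈ P) : g ∈ normalizer (P : Set G) := by
  have hle : P.map (MulAut.conj g).toMonoidHom ≤ P := by
    rw [hPa, MonoidHom.map_zpowers]
    exact zpowers_le.2 (hPa ▸ h)
  have hmap : P.map (MulAut.conj g).toMonoidHom = P :=
    eq_of_le_of_card_ge hle (by rw [card_map_of_injective (MulAut.conj g).injective])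
  refine Subgroup.mem_normalizer_iff.2 fun p => ⟨fun hp => hle ⟨p, hp, rfl⟩, fun hp => ?_⟩
  obtain ⟨q, hq, hqe⟩ := hmap.symm ▸ hp
  exact ((MulAut.conj g).injective hqe) ▸ hq

/-- A conjugator taking `u` to `z` and `P` into `C_H(P)`. -/
theorem exists_conjugator (hJ : IsOfJankoFourTypeWith z P) {u a : G}
    (hu : u ∈ centralizer ({z} : Set G) ⊓ centralizer (P : Set G)) (hconj : IsConj u z)
    (haP : a ∈ P) :
    ∃ g, g * u * g⁻¹ = z ∧
      g * a * g⁻¹ ∈ centralizer ({z} : Set G) ⊓ centralizer (P : Set G) := by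
  obtain ⟨g₀, hg₀⟩ := isConj_iff.1 hconj
  have hb₀H : g₀ * a * g₀⁻¹ ∈ centralizer ({z} : Set G) := by
    refine mem_centralizer_singleton_iff.2 ?_
    conv_lhs => rw [← hg₀]
    conv_rhs => rw [← hg₀]
    calc g₀ * a * g₀⁻¹ * (g₀ * u * g₀⁻¹) = g₀ * (a * u) * g₀⁻¹ := by group
      _ = g₀ * (u * a) * g₀⁻¹ := by rw [commute_p hJ hu.2 haP]
      _ = _ := by group
  obtain ⟨h, hh, hbC⟩ := H42.J4.exists_conj_mem_cent hJ hb₀H (by
    rw [conj_pow, cube_p hJ haP, mul_one, mul_inv_cancel])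
  refine ⟨h * g₀, ?_, ?_⟩
  · calc h * g₀ * u * (h * g₀)⁻¹ = h * (g₀ * u * g₀⁻¹) * h⁻¹ := by group
      _ = z := by rw [hg₀, mem_centralizer_singleton_iff.1 hh, mul_inv_cancel_right]
  · rw [show h * g₀ * a * (h * g₀)⁻¹ = h * (g₀ * a * g₀⁻¹) * h⁻¹ by group]
    exact hbC

/-- Order-three elements of `C_H(P)` with no `H`-conjugate in `P` centralise no full Sylow
3-subgroup of `H`. -/
theorem not_dvd_card (hJ : IsOfJankoFourTypeWith z P) {b : G}
    (hb : b ∈ centralizer ({z} : Set G)) (hb3 : orderOf b = 3)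
    (hno : ∀ h ∈ centralizer ({z} : Set G), h * b * h⁻¹ ∉ P) :
    ¬ 27 ∣ Nat.card ↥(centralizer ({z} : Set G) ⊓ centralizer ({b} : Set G)) := by
  classical
  haveI : Fact (Nat.Prime 3) := ⟨Nat.prime_three⟩
  intro h27
  let H : Subgroup G := centralizer ({z} : Set G)
  let C : Subgroup G := H ⊓ centralizer (P : Set G)
  have hHfac : 3 ^ (Nat.card H).factorization 3 = 27 := by
    rw [(H42.J4.exists_hom_norm hJ).1, H42.J4.card_aut22,
      show 3 * 2 ^ 13 * 887040 = 27 * (2 ^ 13 * 98560) by norm_num,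
      H42.J4.card_three_part (by norm_num)]
  obtain ⟨R', hR'⟩ := Sylow.exists_subgroup_card_pow_prime 3 (n := 3)
    (show 3 ^ 3 ∣ Nat.card ↥(H ⊓ centralizer ({b} : Set G)) from h27)
  let R : Subgroup G := R'.map (H ⊓ centralizer ({b} : Set G)).subtype
  have hR27 : Nat.card R = 27 := by
    rw [card_map_of_injective (H ⊓ centralizer ({b} : Set G)).subtype_injective, hR']; rfl
  have hRle : R ≤ H ⊓ centralizer ({b} : Set G) := map_subtype_le _
  have hRb : ∀ r ∈ R, r * b = b * r := fun r hr => mem_centralizer_singleton_iff.1 (hRle hr).2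
  have hbR : b ∈ R := by
    have hp : IsPGroup 3 ↥(zpowers b ⊔ R) := by
      refine IsPGroup.to_sup_of_normal_right' (IsPGroup.of_card (n := 1) ?_)
        (IsPGroup.of_card (n := 3) hR27) ?_
      · rw [Nat.card_zpowers, hb3, pow_one]
      · refine zpowers_le.2 (centralizer_le_normalizer _ (mem_centralizer_iff.2 fun r hr => ?_))
        exact hRb r hr
    obtain ⟨n, hn⟩ := IsPGroup.iff_card.1 hp
    have hle : zpowers b ⊔ R ≤ H := sup_le (zpowers_le.2 hb) (hRle.trans inf_le_left)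
    have hdvd : 3 ^ n ∣ Nat.card H := hn ▸ card_dvd_of_le hle
    have h1 : 3 ^ n ∣ 27 := by
      rw [← hHfac]
      exact pow_dvd_pow 3 ((Nat.prime_three.pow_dvd_iff_le_factorization Nat.card_pos.ne').1 hdvd)
    have heq : R = zpowers b ⊔ R := eq_of_le_of_card_ge le_sup_right (by
      rw [hn, hR27]; exact Nat.le_of_dvd (by norm_num) h1)
    rw [heq]; exact mem_sup_left (mem_zpowers b)
  obtain ⟨S⟩ : Nonempty (Sylow 3 C) := inferInstance
  let R₀ : Subgroup G := (S : Subgroup C).map C.subtype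
  have hR₀C : R₀ ≤ C := map_subtype_le _
  have hR₀27 : Nat.card R₀ = 27 := by
    rw [card_map_of_injective C.subtype_injective, S.card_eq_multiplicity, H42.J4.card_cent hJ,
      show 6 * 443520 = 27 * 98560 by norm_num, H42.J4.card_three_part (by norm_num)]
  have hR₀H : R₀ ≤ H := hR₀C.trans inf_le_left
  let T : Sylow 3 H := Sylow.ofCard (R₀.subgroupOf H) (by
    rw [Nat.card_congr (subgroupOfEquivOfLe hR₀H).toEquiv, hR₀27, hHfac])
  let U : Sylow 3 H := Sylow.ofCard (R.subgroupOf H) (by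
    rw [Nat.card_congr (subgroupOfEquivOfLe (hRle.trans inf_le_left)).toEquiv, hR27, hHfac])
  obtain ⟨h, hh⟩ := MulAction.exists_smul_eq H U T
  have hto : ∀ r ∈ R, (h : G) * r * (h : G)⁻¹ ∈ R₀ := by
    intro r hr
    have h1 : h * ⟨r, (hRle hr).1⟩ * h⁻¹ ∈ ((h • U : Sylow 3 H) : Subgroup H) := by
      rw [Sylow.coe_subgroup_smul]
      exact ⟨⟨r, (hRle hr).1⟩, by simpa [U, mem_subgroupOf] using hr, by simp⟩
    rw [hh] at h1
    simpa [T, mem_subgroupOf] using h1
  have hmap : R.map (MulAut.conj (h : G)).toMonoidHom = R₀ := by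
    refine eq_of_le_of_card_ge (by rintro _ ⟨r, hr, rfl⟩; exact hto r hr) ?_
    rw [← Nat.card_congr (R.equivMapOfInjective (MulAut.conj (h : G)).toMonoidHom
      (MulAut.conj (h : G)).injective).toEquiv, hR27, hR₀27]
  obtain ⟨hES, -, -, -, -⟩ := H42.J4.of_le_cent hJ hR₀C hR₀27
  have hPR : P ≤ R₀ := by
    intro p hp
    have hpn : IsPGroup 3 ↥(P.subgroupOf C) := IsPGroup.of_card (n := 1) (by
      rw [Nat.card_congr (subgroupOfEquivOfLe (H42.J4.p_le_cent hJ)).toEquiv, hJ.2.2.2.2.2.1,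
        pow_one])
    have hsup : IsPGroup 3 ↥((S : Subgroup C) ⊔ P.subgroupOf C) :=
      S.isPGroup'.to_sup_of_normal_right' hpn (fun c _ => centralizer_le_normalizer _
        (mem_centralizer_iff.2 fun q hq => Subtype.ext
          (H42.J4.ker_central hJ (mem_sup_right (mem_subgroupOf.1 hq)) c.2).eq))
    have heq := S.is_maximal' hsup le_sup_left
    exact ⟨⟨p, H42.J4.p_le_cent hJ hp⟩, heq.le (mem_sup_right (mem_subgroupOf.2 hp)), rfl⟩
  have hcen : center ↥R₀ = P.subgroupOf R₀ := by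
    refine (eq_of_le_of_card_ge (fun p hp => mem_center_iff.2 fun v => Subtype.ext
      (H42.J4.ker_central hJ (mem_sup_right (mem_subgroupOf.1 hp)) (hR₀C v.2)).eq.symm) ?_).symm
    rw [hES.2, Nat.card_congr (subgroupOfEquivOfLe hPR).toEquiv, hJ.2.2.2.2.2.1]
  have hbc : (⟨_, hto b hbR⟩ : ↥R₀) ∈ center ↥R₀ := mem_center_iff.2 fun v => by
    have hv : (v : G) ∈ R.map (MulAut.conj (h : G)).toMonoidHom := by rw [hmap]; exact v.2
    obtain ⟨r, hr, hre⟩ := hv
    refine Subtype.ext ?_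
    have hre' : (v : G) = h * r * (h : G)⁻¹ := hre.symm
    show (v : G) * (h * b * (h : G)⁻¹) = h * b * (h : G)⁻¹ * v
    rw [hre']
    calc (h : G) * r * (h : G)⁻¹ * (h * b * (h : G)⁻¹) = h * (r * b) * (h : G)⁻¹ := by group
      _ = h * (b * r) * (h : G)⁻¹ := by rw [hRb r hr]
      _ = _ := by group
  rw [hcen] at hbc
  exact hno h h.2 (mem_subgroupOf.1 hbc)

/-- Order-three elements of `C_H(P)` with no `H`-conjugate in `P` commute with no element of
prime order at least five of `H`. -/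
theorem no_commute_prime (hJ : IsOfJankoFourTypeWith z P) {b w : G} {r : ℕ}
    (hb : b ∈ centralizer ({z} : Set G)) (hb3 : orderOf b = 3)
    (hno : ∀ h ∈ centralizer ({z} : Set G), h * b * h⁻¹ ∉ P)
    (hw : w ∈ centralizer ({z} : Set G)) (hr : r.Prime) (hr2 : r ≠ 2) (hr3 : r ≠ 3)
    (hwo : orderOf w = r) (hc : w * b = b * w) : False := by
  classical
  haveI : Fact (Nat.Prime 3) := ⟨Nat.prime_three⟩
  haveI : Fact r.Prime := ⟨hr⟩
  obtain ⟨N, e, o⟩ := H69.J4.outer_of_type hJ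
  have hE13 := hJ.2.2.1
  have hP3 := hJ.2.2.2.2.2.1
  have hNcard : Nat.card N = 3 * 2 ^ 13 := by rw [o.cardN, hE13]
  have hbN : b ∉ N := by
    intro hbN
    have hfac : 3 ^ (Nat.card ↥N).factorization 3 = 3 := by
      rw [hNcard, Nat.factorization_mul (by norm_num) (by norm_num), Finsupp.add_apply,
        Nat.prime_three.factorization_self,
        Nat.factorization_eq_zero_of_not_dvd (show ¬ 3 ∣ 2 ^ 13 by norm_num)]
      rfl
    have hzb : zpowers b ≤ N := zpowers_le.2 hbN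
    let S₁ : Sylow 3 N := Sylow.ofCard ((zpowers b).subgroupOf N) (by
      rw [Nat.card_congr (subgroupOfEquivOfLe hzb).toEquiv, Nat.card_zpowers, hb3, hfac])
    let S₂ : Sylow 3 N := Sylow.ofCard (P.subgroupOf N) (by
      rw [Nat.card_congr (subgroupOfEquivOfLe o.hPN).toEquiv, hP3, hfac])
    obtain ⟨n, hn⟩ := MulAction.exists_smul_eq N S₁ S₂
    have h1 : n * ⟨b, hbN⟩ * n⁻¹ ∈ ((n • S₁ : Sylow 3 N) : Subgroup N) := by
      rw [Sylow.coe_subgroup_smul]
      exact ⟨⟨b, hbN⟩, by simp [S₁, mem_subgroupOf], by simp⟩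
    rw [hn] at h1
    exact hno n (o.hNH n.2) (by simpa [S₂, mem_subgroupOf] using h1)
  have hwN : w ∉ N := by
    intro hwN
    have h := N.orderOf_dvd_natCard hwN
    rw [hwo, hNcard] at h
    rcases hr.dvd_mul.1 h with h | h
    · exact hr3 ((Nat.prime_dvd_prime_iff_eq hr Nat.prime_three).1 h)
    · exact hr2 ((Nat.prime_dvd_prime_iff_eq hr Nat.prime_two).1 (hr.dvd_of_dvd_pow h))
  set β := e ⟨b, hb⟩ with hβ
  set ω := e ⟨w, hw⟩ with hω
  have hne : ∀ {x : G} (hx : x ∈ centralizer ({z} : Set G)), x ∉ N → e ⟨x, hx⟩ ≠ 1 := by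
    intro x hx hxN h
    rw [← MonoidHom.mem_ker, o.ker, mem_subgroupOf] at h
    exact hxN h
  have hrange : ∀ (α : MulAut G22) (n : ℕ), Odd n → α ^ n = 1 →
      α ∈ (MulAut.conj : G22 →* MulAut G22).range := by
    intro α n hn hα
    have hi : (MulAut.conj : G22 →* MulAut G22).range.index = 2 := H97.MOut.card_out_M22
    obtain ⟨m, hm⟩ := hn
    have : α = (α ^ 2) ^ (m + 1) := by
      rw [← pow_mul, show 2 * (m + 1) = n + 1 by omega, pow_succ, hα, one_mul]
    rw [this]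
    exact pow_mem (sq_mem_of_index_two hi α) _
  have hodd : Odd r := hr.odd_of_ne_two hr2
  have hβ3 : β ^ 3 = 1 := by
    rw [hβ, ← map_pow, show (⟨b, hb⟩ : ↥(centralizer ({z} : Set G))) ^ 3 = 1 from
      Subtype.ext (show b ^ 3 = 1 by rw [← hb3, pow_orderOf_eq_one]), map_one]
  have hωr : ω ^ r = 1 := by
    rw [hω, ← map_pow, show (⟨w, hw⟩ : ↥(centralizer ({z} : Set G))) ^ r = 1 from
      Subtype.ext (show w ^ r = 1 by rw [← hwo, pow_orderOf_eq_one]), map_one]
  obtain ⟨B, hB⟩ := hrange β 3 (by decide) hβ3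
  obtain ⟨W, hW⟩ := hrange ω r hodd hωr
  have hinj := H42.J4.conj22_injective
  have hBo : orderOf B = 3 := by
    rw [← orderOf_injective _ hinj B, hB]
    exact orderOf_eq_prime hβ3 (hne hb hbN)
  have hWo : orderOf W = r := by
    rw [← orderOf_injective _ hinj W, hW]
    exact orderOf_eq_prime hωr (hne hw hwN)
  have hWB : W * B = B * W := hinj (by
    rw [map_mul, map_mul, hW, hB, hω, hβ, ← map_mul, ← map_mul]
    exact congrArg e (Subtype.ext hc))
  have hd := (centralizer ({B} : Set G22)).orderOf_dvd_natCard (mem_centralizer_singleton_iff.2 hWB)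
  rw [hWo, H42.J4.card_cent_three hBo, show (36 : ℕ) = 2 ^ 2 * 3 ^ 2 by norm_num] at hd
  rcases hr.dvd_mul.1 hd with h | h
  · exact hr2 ((Nat.prime_dvd_prime_iff_eq hr Nat.prime_two).1 (hr.dvd_of_dvd_pow h))
  · exact hr3 ((Nat.prime_dvd_prime_iff_eq hr Nat.prime_three).1 (hr.dvd_of_dvd_pow h))

/-- Every involution of `M22` commutes with an element of order three. -/
theorem exists_three_commuting {t : G22} (ht : orderOf t = 2) :
    ∃ B : G22, orderOf B = 3 ∧ B * t = t * B := by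
  obtain ⟨y, -, hy⟩ := H25.M22.exists_y
  obtain ⟨⟨s, hs⟩, hso⟩ := exists_prime_orderOf_dvd_card' (G := ↥(centralizer ({y} : Set G22))) 2
    (hp := ⟨Nat.prime_two⟩) (by rw [H42.J4.card_cent_three hy]; norm_num)
  rw [← Subgroup.orderOf_coe] at hso
  change orderOf s = 2 at hso
  have h := H25.M22.reps_mem
  simp only [Bool.and_eq_true] at h
  obtain ⟨w, hw⟩ := H87.exists_of_mem22 h.1.1.1
  have hinv : ∀ v : G22, orderOf v = 2 → IsConj w v := fun v hv =>
    H25.M22.isConj_inv hw (by rw [← pow_two, ← hv, pow_orderOf_eq_one])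
      (fun e => by rw [e, orderOf_one] at hv; omega)
  obtain ⟨c, rfl⟩ := isConj_iff.1 ((hinv s hso).symm.trans (hinv t ht))
  refine ⟨c * y * c⁻¹, by rw [show c * y * c⁻¹ = MulAut.conj c y from rfl, MulEquiv.orderOf_eq, hy], ?_⟩
  calc c * y * c⁻¹ * (c * s * c⁻¹) = c * (y * s) * c⁻¹ := by group
    _ = c * (s * y) * c⁻¹ := by rw [mem_centralizer_singleton_iff.1 hs]
    _ = _ := by group

/-- A 3-subgroup of order at least nine of `C_H(P)` fixing `u`. -/
theorem exists_three_fixing (hJ : IsOfJankoFourTypeWith z P) {u : G}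
    (hu : u ∈ centralizer ({z} : Set G) ⊓ centralizer (P : Set G)) (hu2 : u * u = 1)
    (huz : u ∉ zpowers z) :
    ∃ T : Subgroup G, T ≤ centralizer ({z} : Set G) ⊓ centralizer (P : Set G) ∧
      T ≤ centralizer ({u} : Set G) ∧ IsPGroup 3 T ∧ 9 ≤ Nat.card T := by
  classical
  haveI : Fact (Nat.Prime 3) := ⟨Nat.prime_three⟩
  obtain ⟨π, hπ, hker⟩ := H42.J4.exists_hom_cent hJ
  set t := π ⟨u, hu⟩ with ht
  have ht1 : t ≠ 1 := fun h => huz (cube_mem_kernel hJ hu2 (by
    rw [ht, ← MonoidHom.mem_ker, hker, mem_subgroupOf] at h; exact h))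
  have hto : orderOf t = 2 := orderOf_eq_prime (by
    rw [ht, ← map_pow]
    rw [show (⟨u, hu⟩ : ↥(centralizer ({z} : Set G) ⊓ centralizer (P : Set G))) ^ 2 = 1 from
      Subtype.ext (show u ^ 2 = 1 by rw [pow_two, hu2]), map_one]) ht1
  obtain ⟨B, hB, hBt'⟩ := exists_three_commuting hto
  have hBt : B ∈ centralizer ({t} : Set G22) := mem_centralizer_singleton_iff.2 hBt'
  obtain ⟨y₀, hy₀⟩ := hπ B
  set y : G := (y₀ : G) * y₀ with hy
  have hy₀t : (y₀ : G) * u * (y₀ : G)⁻¹ * u⁻¹ ∈ zpowers z ⊔ P := by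
    have h : π (y₀ * ⟨u, hu⟩ * y₀⁻¹ * (⟨u, hu⟩ : ↥(centralizer ({z} : Set G) ⊓
        centralizer (P : Set G)))⁻¹) = 1 := by
      rw [map_mul, map_mul, map_mul, map_inv, map_inv, hy₀, ← ht,
        mem_centralizer_singleton_iff.1 hBt, mul_inv_cancel_right, mul_inv_cancel]
    rw [← MonoidHom.mem_ker, hker, mem_subgroupOf] at h
    exact h
  set k := (y₀ : G) * u * (y₀ : G)⁻¹ * u⁻¹ with hk
  have hku : Commute k u := H42.J4.ker_central hJ hy₀t hu
  have hky : Commute k y₀ := H42.J4.ker_central hJ hy₀t y₀.2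
  have h1 : (y₀ : G) * u * (y₀ : G)⁻¹ = k * u := by rw [hk]; group
  have hk2 : k * k = 1 := by
    have : (k * u) * (k * u) = 1 := by
      rw [← h1]
      calc (y₀ : G) * u * (y₀ : G)⁻¹ * (y₀ * u * (y₀ : G)⁻¹) = y₀ * (u * u) * (y₀ : G)⁻¹ := by group
        _ = 1 := by rw [hu2, mul_one, mul_inv_cancel]
    rwa [hku.symm.mul_mul_mul_comm, hu2, mul_one] at this
  have hyu : y * u = u * y := by
    have h2 : y * u * y⁻¹ = u := by
      calc y * u * y⁻¹ = (y₀ : G) * ((y₀ : G) * u * (y₀ : G)⁻¹) * (y₀ : G)⁻¹ := by rw [hy]; group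
        _ = (y₀ : G) * (k * u) * (y₀ : G)⁻¹ := by rw [h1]
        _ = ((y₀ : G) * k * (y₀ : G)⁻¹) * ((y₀ : G) * u * (y₀ : G)⁻¹) := by group
        _ = k * (k * u) := by rw [← hky.eq, mul_inv_cancel_right, h1]
        _ = u := by rw [← mul_assoc, hk2, one_mul]
    calc y * u = y * u * y⁻¹ * y := by group
      _ = u * y := by rw [h2]
  have hyC : y ∈ centralizer ({z} : Set G) ⊓ centralizer (P : Set G) := Subgroup.mul_mem _ y₀.2 y₀.2
  have hy18 : y ^ 9 = 1 := by
    have h3 : π (y₀ ^ 3) = 1 := by rw [map_pow, hy₀, ← hB, pow_orderOf_eq_one]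
    rw [← MonoidHom.mem_ker, hker, mem_subgroupOf] at h3
    have h6 := (zpowers z ⊔ P).orderOf_dvd_natCard h3
    rw [H42.J4.card_ker hJ, orderOf_dvd_iff_pow_eq_one] at h6
    rw [hy, ← pow_two, ← pow_mul]
    rw [SubgroupClass.coe_pow, ← pow_mul] at h6
    exact h6
  have hyP : y ∉ P := by
    intro h
    have h1 : π (y₀ * y₀) = 1 := by
      rw [← MonoidHom.mem_ker, hker, mem_subgroupOf]
      exact mem_sup_right h
    rw [map_mul, hy₀] at h1
    have := orderOf_dvd_of_pow_eq_one (show B ^ 2 = 1 by rw [pow_two, h1])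
    rw [hB] at this
    norm_num at this
  refine ⟨zpowers y ⊔ P, sup_le (zpowers_le.2 hyC) (H42.J4.p_le_cent hJ),
    sup_le (zpowers_le.2 (mem_centralizer_singleton_iff.2 hyu)) (fun p hp =>
      mem_centralizer_singleton_iff.2 (commute_p hJ hu.2 hp).symm), ?_, ?_⟩
  · obtain ⟨j, -, hj⟩ := (Nat.dvd_prime_pow Nat.prime_three).1
      (show orderOf y ∣ 3 ^ 2 from orderOf_dvd_of_pow_eq_one hy18)
    exact (IsPGroup.of_card (n := j) (by rw [Nat.card_zpowers, hj])).to_sup_of_normal_right'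
      (IsPGroup.of_card (n := 1) (by rw [hJ.2.2.2.2.2.1, pow_one]))
      ((zpowers_le.2 hyC).trans (inf_le_right.trans (centralizer_le_normalizer _)))
  · have hd : 3 ∣ Nat.card ↥(zpowers y ⊔ P) := hJ.2.2.2.2.2.1 ▸ card_dvd_of_le le_sup_right
    have hne : Nat.card ↥(zpowers y ⊔ P) ≠ 3 := fun h => hyP (by
      rw [eq_of_le_of_card_ge (le_sup_right : P ≤ zpowers y ⊔ P) (by rw [h, hJ.2.2.2.2.2.1])]
      exact mem_sup_left (mem_zpowers y))
    have hp : IsPGroup 3 ↥(zpowers y ⊔ P) := by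
      obtain ⟨j, -, hj⟩ := (Nat.dvd_prime_pow Nat.prime_three).1
        (show orderOf y ∣ 3 ^ 2 from orderOf_dvd_of_pow_eq_one hy18)
      exact (IsPGroup.of_card (n := j) (by rw [Nat.card_zpowers, hj])).to_sup_of_normal_right'
        (IsPGroup.of_card (n := 1) (by rw [hJ.2.2.2.2.2.1, pow_one]))
        ((zpowers_le.2 hyC).trans (inf_le_right.trans (centralizer_le_normalizer _)))
    obtain ⟨n, hn⟩ := IsPGroup.iff_card.1 hp
    rw [hn] at hd hne ⊢
    have h2 : 2 ≤ n := by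
      by_contra hlt
      interval_cases n
      · norm_num at hd
      · exact hne (pow_one 3)
    calc (9 : ℕ) = 3 ^ 2 := by norm_num
      _ ≤ 3 ^ n := Nat.pow_le_pow_right (by norm_num) h2

/-- An involution fused to `z` centralises only `P` in the odd core of `C(P)`. -/
theorem fixed_core (hJ : IsOfJankoFourTypeWith z P) {u : G}
    (hu : u ∈ centralizer ({z} : Set G) ⊓ centralizer (P : Set G)) (huz : u ∉ zpowers z)
    (hconj : IsConj u z) {k : G} (hk : k ∈ core P) (hku : u * k = k * u) : k ∈ P := by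
  classical
  haveI : Fact (Nat.Prime 3) := ⟨Nat.prime_three⟩
  obtain ⟨a, haP, ha, hPa, -, -, -⟩ := H42.J4.exists_gen hJ
  obtain ⟨g, hgu, hbC⟩ := exists_conjugator hJ hu hconj haP
  have hu2 : u * u = 1 := by
    refine conj_eq_one_iff.1 (show g * (u * u) * g⁻¹ = 1 from ?_)
    calc g * (u * u) * g⁻¹ = (g * u * g⁻¹) * (g * u * g⁻¹) := by group
      _ = 1 := by rw [hgu, zz hJ]
  set b := g * a * g⁻¹ with hb
  have hb3 : orderOf b = 3 := by
    rw [hb, show g * a * g⁻¹ = MulAut.conj g a from rfl, MulEquiv.orderOf_eq, ha]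
  have hno : ∀ h ∈ centralizer ({z} : Set G), h * b * h⁻¹ ∉ P := by
    intro h hh hmem
    refine not_normalizer hJ hu huz (g := h * g) ?_ (mem_normalizer_of_gen hJ haP hPa ?_)
    · calc h * g * u * (h * g)⁻¹ = h * (g * u * g⁻¹) * h⁻¹ := by group
        _ = z := by rw [hgu, mem_centralizer_singleton_iff.1 hh, mul_inv_cancel_right]
    · rw [show h * g * a * (h * g)⁻¹ = h * b * h⁻¹ by rw [hb]; group]; exact hmem
  by_contra hkP
  let W₀ : Subgroup G := core P ⊓ centralizer ({u} : Set G)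
  let W : Subgroup G := W₀.map (MulAut.conj g).toMonoidHom
  have hinto : ∀ y ∈ centralizer (P : Set G), y ∈ centralizer ({u} : Set G) →
      g * y * g⁻¹ ∈ centralizer ({z} : Set G) ⊓ centralizer ({b} : Set G) := by
    intro y hy hyu
    refine mem_inf.2 ⟨mem_centralizer_singleton_iff.2 ?_, mem_centralizer_singleton_iff.2 ?_⟩
    · conv_lhs => rw [← hgu]
      conv_rhs => rw [← hgu]
      calc g * y * g⁻¹ * (g * u * g⁻¹) = g * (y * u) * g⁻¹ := by group
        _ = g * (u * y) * g⁻¹ := by rw [mem_centralizer_singleton_iff.1 hyu]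
        _ = _ := by group
    · calc g * y * g⁻¹ * b = g * (y * a) * g⁻¹ := by rw [hb]; group
        _ = g * (a * y) * g⁻¹ := by rw [commute_p hJ hy haP]
        _ = _ := by rw [hb]; group
  have hWle : W ≤ centralizer ({z} : Set G) ⊓ centralizer ({b} : Set G) := by
    rintro _ ⟨y, hy, rfl⟩
    exact hinto y (core_le hy.1) hy.2
  have hWodd : Odd (Nat.card W) := by
    rw [card_map_of_injective (MulAut.conj g).injective]
    exact (core_odd (P := P)).of_dvd_nat (card_dvd_of_le inf_le_left)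
  have hW3 : IsPGroup 3 W := by
    refine IsPGroup.of_card (n := (Nat.card W).primeFactorsList.length)
      (Nat.eq_prime_pow_of_unique_prime_dvd Nat.card_pos.ne' fun {r} hr hrd => ?_)
    by_contra hr3
    haveI : Fact r.Prime := ⟨hr⟩
    obtain ⟨⟨w, hwW⟩, hwo⟩ := exists_prime_orderOf_dvd_card' r hrd
    rw [← Subgroup.orderOf_coe] at hwo
    refine no_commute_prime hJ hbC.1 hb3 hno (mem_inf.1 (hWle hwW)).1 hr ?_ hr3 hwo
      (mem_centralizer_singleton_iff.1 (mem_inf.1 (hWle hwW)).2)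
    intro h2
    subst h2
    have := hWodd.of_dvd_nat hrd
    exact absurd this (by decide)
  obtain ⟨T₀, hT₀C, hT₀u, hT₀3, hT₀9⟩ := exists_three_fixing hJ hu hu2 huz
  let T : Subgroup G := T₀.map (MulAut.conj g).toMonoidHom
  have hTle : T ≤ centralizer ({z} : Set G) ⊓ centralizer ({b} : Set G) := by
    rintro _ ⟨y, hy, rfl⟩
    exact hinto y (hT₀C hy).2 (hT₀u hy)
  have hTn : T ≤ normalizer (W : Set G) := by
    rintro _ ⟨y, hy, rfl⟩
    have key : ∀ y ∈ T₀, ∀ v ∈ W, (g * y * g⁻¹) * v * (g * y * g⁻¹)⁻¹ ∈ W := by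
      rintro y hy _ ⟨v, hv, rfl⟩
      refine ⟨y * v * y⁻¹, ⟨core_conj_cent (hT₀C hy).2 hv.1, ?_⟩, ?_⟩
      · exact Subgroup.mul_mem _ (Subgroup.mul_mem _ (hT₀u hy) hv.2) (Subgroup.inv_mem _ (hT₀u hy))
      · show g * (y * v * y⁻¹) * g⁻¹ = g * y * g⁻¹ * (g * v * g⁻¹) * (g * y * g⁻¹)⁻¹
        group
    refine Subgroup.mem_normalizer_iff.2 fun v => ⟨key y hy v, fun h => ?_⟩
    have h' := key y⁻¹ (inv_mem hy) _ h
    have e : g * y⁻¹ * g⁻¹ * ((MulAut.conj g).toMonoidHom y * v * ((MulAut.conj g).toMonoidHom y)⁻¹) *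
        (g * y⁻¹ * g⁻¹)⁻¹ = v := by
      show g * y⁻¹ * g⁻¹ * ((g * y * g⁻¹) * v * (g * y * g⁻¹)⁻¹) * (g * y⁻¹ * g⁻¹)⁻¹ = v
      group
    rwa [e] at h'
  have hsup : IsPGroup 3 ↥(T ⊔ W) :=
    (hT₀3.map (MulAut.conj g).toMonoidHom).to_sup_of_normal_right' hW3 hTn
  obtain ⟨n, hn⟩ := IsPGroup.iff_card.1 hsup
  have hTcard : Nat.card T = Nat.card T₀ := card_map_of_injective (MulAut.conj g).injective
  have hlt : Nat.card T < Nat.card ↥(T ⊔ W) := by
    refine lt_of_le_of_ne (Subgroup.card_le_of_le le_sup_left) fun h => hkP ?_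
    have heq : T = T ⊔ W := eq_of_le_of_card_ge le_sup_left h.ge
    have hkW : g * k * g⁻¹ ∈ W :=
      ⟨k, ⟨hk, mem_centralizer_singleton_iff.2 hku.symm⟩, rfl⟩
    have hkT : g * k * g⁻¹ ∈ T := heq.symm ▸ mem_sup_right hkW
    obtain ⟨y, hy, hye⟩ := hkT
    rw [← (MulAut.conj g).injective hye]
    have := hT₀C hy
    exact core_inf_cent hJ (by rw [(MulAut.conj g).injective hye]; exact hk) this.1
  refine not_dvd_card hJ hbC.1 hb3 hno (dvd_trans ?_ (card_dvd_of_le (sup_le hTle hWle)))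
  rw [hn] at hlt ⊢
  have : 3 ≤ n := by
    by_contra h
    interval_cases n <;> omega
  exact pow_dvd_pow 3 this

end Cfsg.Agent.H82.J4Iso
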